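import Cfsg.Agent.H60.PMinimal
import Mathlib.GroupTheory.Index

/-!
p-minimal groups with a simple normal subgroup: facts independent of the structure of that
subgroup.
-/

set_option autoImplicit false
set_option linter.unusedSectionVars false

namespace Cfsg.Agent.H88.PMin

universe u

variable {X : Type u} [Group X] [Finite X] {p : ℕ} [hp : Fact p.Prime] {K : Subgroup X} [K.Normal]

/-- The normalisers of two Sylow subgroups of `K` are maximal together. -/
theorem coatom_of_sylow (U U' : Sylow p ↥K)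
    (h : IsCoatom (Subgroup.normalizer (((U : Subgroup ↥K).map K.subtype : Subgroup X) : Set X))) :
    IsCoatom (Subgroup.normalizer (((U' : Subgroup ↥K).map K.subtype : Subgroup X) : Set X)) := by
  obtain ⟨g, hg⟩ := MulAction.exists_smul_eq ↥K U U'
  have e : (Subgroup.normalizer (((U' : Subgroup ↥K).map K.subtype : Subgroup X) : Set X)) =
      (MulAut.conj (g : X)).mapSubgroup
        (Subgroup.normalizer (((U : Subgroup ↥K).map K.subtype : Subgroup X) : Set X)) := by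
    show _ = (Subgroup.normalizer _).map (MulAut.conj (g : X)).toMonoidHom
    rw [Subgroup.map_equiv_normalizer_eq]
    congr 2
    ext x
    subst hg
    constructor
    · rintro ⟨_, ⟨y, hy, rfl⟩, rfl⟩
      exact ⟨(y : X), ⟨y, hy, rfl⟩, rfl⟩
    · rintro ⟨_, ⟨y, hy, rfl⟩, rfl⟩
      exact ⟨MulAut.conj g y, ⟨y, hy, rfl⟩, rfl⟩
  rw [e]
  exact ((MulAut.conj (g : X)).mapSubgroup.isCoatom_iff _).2 h

theorem normalizer_ne_top (hs : IsSimpleGroup ↥K) (U : Sylow p ↥K) (h1 : (U : Subgroup ↥K) ≠ ⊥)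
    (h2 : (U : Subgroup ↥K) ≠ ⊤) :
    Subgroup.normalizer (((U : Subgroup ↥K).map K.subtype : Subgroup X) : Set X) ≠ ⊤ := by
  intro h
  have hn : (U : Subgroup ↥K).Normal := ⟨fun x hx g => by
    have hg : (g : X) ∈ Subgroup.normalizer
        (((U : Subgroup ↥K).map K.subtype : Subgroup X) : Set X) := h ▸ Subgroup.mem_top _
    obtain ⟨y, hy, e⟩ := (Subgroup.mem_normalizer_iff.1 hg x).1 ⟨x, hx, rfl⟩
    rwa [show g * x * g⁻¹ = y from Subtype.ext e.symm]⟩
  rcases hn.eq_bot_or_eq_top with e | e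
  exacts [h1 e, h2 e]

/-- A Sylow subgroup over `U` normalises `U`. -/
theorem le_normalizer_of_sylow (U : Sylow p ↥K) (P : Sylow p X)
    (hP : (U : Subgroup ↥K).map K.subtype ≤ (P : Subgroup X)) :
    (P : Subgroup X) ≤ Subgroup.normalizer (((U : Subgroup ↥K).map K.subtype : Subgroup X) : Set X) := by
  have hPK : ∀ x : ↥K, (x : X) ∈ (P : Subgroup X) → x ∈ (U : Subgroup ↥K) := by
    intro x hx
    have h := U.3 (Q := (P : Subgroup X).comap K.subtype)
      (P.isPGroup'.comap_of_injective _ K.subtype_injective) (fun y hy => hP ⟨y, hy, rfl⟩)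
    rw [← h]; exact hx
  intro g hg
  refine Subgroup.mem_normalizer_fintype ?_
  rintro _ ⟨y, hy, rfl⟩
  exact ⟨⟨g * y * g⁻¹, (inferInstance : K.Normal).conj_mem _ y.2 g⟩,
    hPK _ (mul_mem (mul_mem hg (hP ⟨y, hy, rfl⟩)) (inv_mem hg)), rfl⟩

/-- Two proper subgroups over `U`, stable under the normaliser of `U` and generating `K`, are
impossible in a p-minimal group. -/
theorem false_of_two (hX : Cfsg.IsPMinimal p X) (hs : IsSimpleGroup ↥K) (U : Sylow p ↥K)
    (h1 : (U : Subgroup ↥K) ≠ ⊥) (h2 : (U : Subgroup ↥K) ≠ ⊤) (M₁ M₂ : Subgroup ↥K) (hM₁ : M₁ ≠ ⊤)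
    (hM₂ : M₂ ≠ ⊤) (hU₁ : (U : Subgroup ↥K) ≤ M₁) (hU₂ : (U : Subgroup ↥K) ≤ M₂)
    (hinv : ∀ g : X, (∀ x ∈ (U : Subgroup ↥K), MulAut.conjNormal g x ∈ (U : Subgroup ↥K)) →
      M₁.map (MulAut.conjNormal g : ↥K ≃* ↥K).toMonoidHom ≤ M₁ ∧
        M₂.map (MulAut.conjNormal g : ↥K ≃* ↥K).toMonoidHom ≤ M₂)
    (hgen : M₁ ⊔ M₂ = ⊤) : False := by
  obtain ⟨P, hP⟩ := (U.isPGroup'.map K.subtype).exists_le_sylow
  have hPN := le_normalizer_of_sylow U P hP
  obtain ⟨M, ⟨hM, hPM⟩, -⟩ := (hX P).2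
  have hNM := Cfsg.Agent.H60.pMin_le hX hM hPM hPN (normalizer_ne_top hs U h1 h2)
  have hfr := Sylow.normalizer_sup_eq_top U
  have key : ∀ L : Subgroup ↥K, L ≠ ⊤ → (U : Subgroup ↥K) ≤ L →
      (∀ g ∈ (P : Subgroup X), L.map (MulAut.conjNormal g : ↥K ≃* ↥K).toMonoidHom ≤ L) →
      L.map K.subtype ≤ M := by
    intro L hL hUL hPL
    refine le_trans le_sup_left (Cfsg.Agent.H60.pMin_le hX hM hPM
      (le_sup_right : (P : Subgroup X) ≤ L.map K.subtype ⊔ P) fun htop => ?_)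
    have hn : (Subgroup.normalizer ((L.map K.subtype : Subgroup X) : Set X)) = ⊤ := by
      refine top_le_iff.1 (htop.ge.trans (sup_le Subgroup.le_normalizer fun g hg => ?_))
      refine Subgroup.mem_normalizer_fintype ?_
      rintro _ ⟨y, hy, rfl⟩
      exact ⟨MulAut.conjNormal g y, hPL g hg ⟨y, hy, rfl⟩, by simp⟩
    have hnL : L.Normal := ⟨fun x hx g => by
      have hg : (g : X) ∈ Subgroup.normalizer ((L.map K.subtype : Subgroup X) : Set X) :=
        hn ▸ Subgroup.mem_top _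
      obtain ⟨y, hy, e⟩ := (Subgroup.mem_normalizer_iff.1 hg x).1 ⟨x, hx, rfl⟩
      rwa [show g * x * g⁻¹ = y from Subtype.ext e.symm]⟩
    rcases hnL.eq_bot_or_eq_top with e | e
    exacts [h1 (le_bot_iff.1 (hUL.trans e.le)), hL e]
  have hgU : ∀ g ∈ (P : Subgroup X), ∀ x ∈ (U : Subgroup ↥K),
      MulAut.conjNormal g x ∈ (U : Subgroup ↥K) := by
    intro g hg x hx
    obtain ⟨y, hy, e⟩ := (Subgroup.mem_normalizer_iff.1 (hPN hg) x).1 ⟨x, hx, rfl⟩
    rwa [show MulAut.conjNormal g x = y from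
      Subtype.ext (by rw [MulAut.conjNormal_apply]; exact e.symm)]
  have hK : K ≤ M := by
    have hle : M₁ ⊔ M₂ ≤ M.comap K.subtype :=
      sup_le (Subgroup.map_le_iff_le_comap.1 (key M₁ hM₁ hU₁ fun g hg => (hinv g (hgU g hg)).1))
        (Subgroup.map_le_iff_le_comap.1 (key M₂ hM₂ hU₂ fun g hg => (hinv g (hgU g hg)).2))
    rw [hgen] at hle
    exact fun x hx => hle (Subgroup.mem_top (⟨x, hx⟩ : ↥K))
  exact hM.1 (top_le_iff.1 (hfr ▸ sup_le hNM hK))

/-- If the normaliser of `U` in `K` is maximal, so is the normaliser in `X`. -/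
theorem coatom_of_maximal (U : Sylow p ↥K)
    (hne : Subgroup.normalizer (((U : Subgroup ↥K).map K.subtype : Subgroup X) : Set X) ≠ ⊤)
    (hK : ∀ L : Subgroup ↥K, Subgroup.normalizer ((U : Subgroup ↥K) : Set ↥K) ≤ L → L ≠ ⊤ →
      L ≤ Subgroup.normalizer ((U : Subgroup ↥K) : Set ↥K)) :
    IsCoatom (Subgroup.normalizer (((U : Subgroup ↥K).map K.subtype : Subgroup X) : Set X)) := by
  set N := Subgroup.normalizer (((U : Subgroup ↥K).map K.subtype : Subgroup X) : Set X) with hN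
  have hfr : N ⊔ K = ⊤ := Sylow.normalizer_sup_eq_top U
  refine ⟨hne, fun H hH => ?_⟩
  by_contra hH'
  have hle : Subgroup.normalizer ((U : Subgroup ↥K) : Set ↥K) ≤ H.comap K.subtype := by
    intro x hx
    refine hH.le (Subgroup.mem_normalizer_fintype ?_)
    rintro _ ⟨y, hy, rfl⟩
    exact ⟨x * y * x⁻¹, (Subgroup.mem_normalizer_iff.1 hx y).1 hy, rfl⟩
  have hlt : H.comap K.subtype ≠ ⊤ := fun e => hH' (top_le_iff.1 (hfr ▸ sup_le hH.le fun x hx =>
    (e ▸ Subgroup.mem_top _ : (⟨x, hx⟩ : ↥K) ∈ H.comap K.subtype)))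
  have heq := hK _ hle hlt
  -- `U` is the unique Sylow subgroup of its normaliser
  refine not_le_of_gt hH fun g hg => Subgroup.mem_normalizer_fintype ?_
  rintro _ ⟨y, hy, rfl⟩
  set z : ↥K := ⟨g * y * g⁻¹, (inferInstance : K.Normal).conj_mem _ y.2 g⟩
  have hzH : z ∈ H.comap K.subtype :=
    mul_mem (mul_mem hg (hle (Subgroup.le_normalizer hy))) (inv_mem hg)
  obtain ⟨k, hk⟩ := U.isPGroup' ⟨y, hy⟩
  have hz : z ^ p ^ k = 1 := by
    refine Subtype.ext ?_
    show (g * (y : X) * g⁻¹) ^ p ^ k = 1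
    rw [conj_pow, show (y : X) ^ p ^ k = 1 from congrArg Subtype.val (congrArg Subtype.val hk), mul_one,
      mul_inv_cancel]
  refine ⟨z, ?_, rfl⟩
  have hzN := heq hzH
  have hpz : IsPGroup p ↥(Subgroup.zpowers z) := by
    rintro ⟨w, hw⟩
    obtain ⟨n, rfl⟩ := hw
    exact ⟨k, Subtype.ext (by
      simp only [SubmonoidClass.coe_pow, OneMemClass.coe_one]
      rw [← zpow_natCast, ← zpow_mul, mul_comm, zpow_mul, zpow_natCast, hz, one_zpow])⟩
  have hsup := IsPGroup.to_sup_of_normal_right' hpz U.isPGroup' (Subgroup.zpowers_le.2 hzN)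
  rw [← U.3 hsup le_sup_right]
  exact Subgroup.mem_sup_left (Subgroup.mem_zpowers z)

end Cfsg.Agent.H88.PMin
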