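import Cfsg.Agent.H88.PMin.Crit
import Cfsg.Agent.H13.Split.Classical
import Cfsg.Agent.H13.Split.OPlus
import Cfsg.Agent.Unitary.Field

/-!
The classical groups: the rank cases lead to a group of rank one, `PSL₃(2^e)` or `PSp₄(2^e)`.
-/

set_option autoImplicit false
set_option linter.unusedSectionVars false
set_option linter.unusedFintypeInType false
set_option linter.style.haveILetI false

namespace Cfsg.Agent.H88.PMin

open Matrix Cfsg.Agent.Linear Cfsg.Agent.H54 Cfsg.Agent.H52 Cfsg.Agent.H52.TwistedBruhat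
open Cfsg.Agent.H83.Classical
open Cfsg.Agent.H13.Split
open scoped MatrixGroups

theorem ne_of_apply {n : ℕ} {a b : Equiv.Perm (Fin n)} (i : Fin n) (h : (a i : ℕ) ≠ (b i : ℕ)) :
    a ≠ b := fun e => h (by rw [e])

/-- The double transposition at `i, i+1`. -/
def dbl {n : ℕ} (i : ℕ) (h : 2 * i + 3 < n) : Equiv.Perm (Fin n) :=
  Equiv.swap ⟨i, by omega⟩ ⟨i + 1, by omega⟩ *
    Equiv.swap (Fin.rev ⟨i + 1, by omega⟩) (Fin.rev ⟨i, by omega⟩)

theorem dbl_lt {n : ℕ} {i : ℕ} (h : 2 * i + 3 < n) :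
    (⟨i + 1, by omega⟩ : Fin n) < (⟨i + 1, by omega⟩ : Fin n).rev := by
  rw [Fin.lt_def, Fin.val_rev]; simp only; omega

theorem dbl_sgen {n : ℕ} {i : ℕ} (h : 2 * i + 3 < n) : TwData.SGen (dbl i h) :=
  ⟨⟨i, by omega⟩, ⟨i + 1, by omega⟩, rfl, Or.inr (Or.inr ⟨dbl_lt h, rfl⟩)⟩

theorem dbl_apply {n : ℕ} {i : ℕ} (h : 2 * i + 3 < n) (k : Fin n) (hk : (k : ℕ) ≤ i + 1) :
    (dbl i h k : ℕ) = if (k : ℕ) = i then i + 1 else if (k : ℕ) = i + 1 then i else (k : ℕ) := by
  simp only [dbl, Equiv.Perm.coe_mul, Function.comp_apply, Equiv.swap_apply_def, Fin.ext_iff,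
    Fin.val_rev, apply_ite Fin.val]
  split_ifs <;> omega

theorem dbl_ne {n : ℕ} {i j : ℕ} (h : 2 * i + 3 < n) (h' : 2 * j + 3 < n) (hij : i < j) :
    dbl i h ≠ dbl j h' := by
  refine ne_of_apply ⟨i, by omega⟩ ?_
  rw [dbl_apply h _ (by simp only; omega), dbl_apply h' _ (by simp only; omega)]
  simp only [↓reduceIte]
  split_ifs <;> omega

/-- The middle generator. -/
def last (n : ℕ) (hn : 4 ≤ n) : Equiv.Perm (Fin n) :=
  if n % 2 = 0 then Equiv.swap ⟨n / 2 - 1, by omega⟩ ⟨n / 2, by omega⟩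
  else Equiv.swap ⟨n / 2 - 1, by omega⟩ (Fin.rev ⟨n / 2 - 1, by omega⟩)

theorem last_sgen (n : ℕ) (hn : 4 ≤ n) : TwData.SGen (last n hn) := by
  refine ⟨⟨n / 2 - 1, by omega⟩, ⟨n / 2, by omega⟩, by simp only; omega, ?_⟩
  unfold last
  split_ifs with h
  · refine Or.inl ⟨?_, rfl⟩
    rw [Fin.ext_iff, Fin.val_rev]; simp only; omega
  · refine Or.inr (Or.inl ⟨?_, rfl⟩)
    rw [Fin.ext_iff, Fin.val_rev]; simp only; omega

theorem last_apply (n : ℕ) (hn : 4 ≤ n) (k : Fin n) (hk : (k : ℕ) + 1 < n / 2) :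
    (last n hn k : ℕ) = k := by
  unfold last
  split_ifs <;>
    simp only [Equiv.swap_apply_def, Fin.ext_iff, Fin.val_rev, apply_ite Fin.val] <;>
    split_ifs <;> omega

theorem dbl_ne_last {n : ℕ} {i : ℕ} (h : 2 * i + 3 < n) (hn : 4 ≤ n) (hi : i + 1 < n / 2) :
    dbl i h ≠ last n hn := by
  refine ne_of_apply ⟨i, by omega⟩ ?_
  rw [dbl_apply h _ (by simp only; omega), last_apply n hn _ hi]
  simp

section

variable {F : Type} [Field F] [Fintype F] {p : ℕ} [hp : Fact p.Prime] [CharP F p]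

theorem four_le_of_two (h : p = 2) (h3 : 3 ≤ Fintype.card F) : 4 ≤ Fintype.card F := by
  obtain ⟨f, -, hf⟩ := FiniteField.card F p
  subst h
  rcases Nat.lt_or_ge (f : ℕ) 2 with hlt | hge
  · have : (f : ℕ) = 1 := by have := f.pos; omega
    rw [hf, this] at h3; omega
  · rw [hf]
    exact le_trans (by norm_num) (Nat.pow_le_pow_right (by norm_num : 1 ≤ 2) hge)

theorem good_psl {K : Type*} [Group K] {n : ℕ} (hn : 2 ≤ n) (h2 : n = 2 → 4 ≤ Fintype.card F)
    (e : K ≃* Matrix.ProjectiveSpecialLinearGroup (Fin n) F) : Good p K := by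
  haveI : Nonempty (Fin n) := ⟨⟨0, by omega⟩⟩
  haveI : (Matrix.SpecialLinearGroup.toGL :
      Matrix.SpecialLinearGroup (Fin n) F →* GL (Fin n) F).range.Normal := by
    rw [Cfsg.Agent.Linear.range_toGL]; infer_instance
  obtain ⟨A, hA, hS, -⟩ := exists_sys (gl_hyp (F := F) p hn (fun _ => 1) rfl) _ unitriGL_le_range_toGL
    (e.trans (centerQuot (MonoidHom.ofInjective Cfsg.Agent.Linear.toGL_injective)))
  refine ⟨_, inferInstance, inferInstance, A, hA, fun proper h => ?_⟩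
  have hmem : ∀ (i : ℕ) (hi : i + 1 < n),
      Equiv.swap (⟨i, by omega⟩ : Fin n) ⟨i + 1, hi⟩ ∈ A.S := fun i hi => hS ▸ ⟨_, _, rfl, rfl⟩
  rcases (show n = 2 ∨ n = 3 ∨ 4 ≤ n by omega) with rfl | rfl | h4
  · exact Or.inl (Or.inl ⟨F, inferInstance, inferInstance, inferInstance, h2 rfl, ⟨e⟩⟩)
  · obtain ⟨hp2, hpr, -, -⟩ := swap_of_two h (hmem 0 (by omega)) (hmem 1 (by omega))
      (ne_of_apply ⟨0, by omega⟩ (by simp [Equiv.swap_apply_def]))
    subst hp2
    exact Or.inr ⟨rfl, hpr, Or.inl ⟨F, inferInstance, inferInstance, inferInstance, ⟨e⟩⟩⟩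
  · exact (false_of_three h (hmem 0 (by omega)) (hmem 1 (by omega)) (hmem 2 (by omega))
      (ne_of_apply ⟨0, by omega⟩ (by simp [Equiv.swap_apply_def]))
      (ne_of_apply ⟨0, by omega⟩ (by simp [Equiv.swap_apply_def]))
      (ne_of_apply ⟨1, by omega⟩ (by simp [Equiv.swap_apply_def]))).elim

theorem good_psp {K : Type*} [Group K] {m : ℕ} (hm : 2 ≤ m) (h2 : m = 2 → 3 ≤ Fintype.card F)
    (e : K ≃* Cfsg.PSp m F) : Good p K := by
  obtain ⟨A, hA, hS, -⟩ := exists_sys (tw_hyp (Symp.data m F) p (by omega)) ⊤ le_top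
    (e.trans (centerQuot (((MonoidHom.ofInjective (Symp.toGrp_injective m F)).trans
      (MulEquiv.subgroupCongr (Symp.range_toGrp m F))).trans Subgroup.topEquiv.symm)))
  refine ⟨_, inferInstance, inferInstance, A, hA, fun proper h => ?_⟩
  have hd : ∀ (i : ℕ) (hi : 2 * i + 3 < m + m), (⟨dbl i hi, (dbl_sgen hi).mem⟩ :
      ↥(TwData.symPerm (m + m))) ∈ A.S := fun i hi => hS ▸ dbl_sgen hi
  have hl : (⟨last (m + m) (by omega), (last_sgen (m + m) (by omega)).mem⟩ : ↥(TwData.symPerm (m + m))) ∈ A.S :=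
    hS ▸ last_sgen (m + m) (by omega)
  rcases (show m = 2 ∨ 3 ≤ m by omega) with rfl | h3
  · obtain ⟨hp2, hpr, -, -⟩ := swap_of_two h (hd 0 (by omega)) hl (fun e' =>
      dbl_ne_last (i := 0) (n := 2 + 2) (by omega) (by omega) (by omega) (congrArg Subtype.val e'))
    subst hp2
    exact Or.inr ⟨rfl, hpr, Or.inr (Or.inl ⟨F, inferInstance, inferInstance, inferInstance, four_le_of_two rfl (h2 rfl), ⟨e⟩⟩)⟩
  · exact (false_of_three h (hd 0 (by omega)) (hd 1 (by omega)) hl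
      (fun e' => dbl_ne (n := m + m) (i := 0) (j := 1) (by omega) (by omega) (by omega) (congrArg Subtype.val e'))
      (fun e' => dbl_ne_last (n := m + m) (i := 0) (by omega) (by omega) (by omega) (congrArg Subtype.val e'))
      (fun e' => dbl_ne_last (n := m + m) (i := 1) (by omega) (by omega) (by omega) (congrArg Subtype.val e'))).elim

theorem good_omega_odd {K : Type*} [Group K] {m : ℕ} (hm : 3 ≤ m) (hodd : Odd (Fintype.card F))
    (e : K ≃* Cfsg.POmega F (Cfsg.quadFormOdd m F)) : Good p K := by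
  obtain ⟨f, -, hf⟩ := FiniteField.card F p
  have hp2 : Odd p := by
    rw [hf] at hodd
    exact (Nat.odd_pow_iff f.ne_zero).1 hodd
  have h2 : (2 : F) ≠ 0 := fun h => by
    have : p ∣ 2 := (CharP.cast_eq_zero_iff F p 2).1 (by exact_mod_cast h)
    have := (Nat.prime_dvd_prime_iff_eq hp.out Nat.prime_two).1 this
    subst this
    exact absurd hp2 (by decide)
  set T := Orth.data m h2
  let φ := (MonoidHom.ofInjective (Orth.toGrp_injective m (F := F))).trans
    (MulEquiv.subgroupCongr (Orth.range_toGrp m h2))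
  set Ω := Cfsg.Omega F (Cfsg.quadFormOdd m F)
  let N : Subgroup ↥T.Grp := Ω.map φ.toMonoidHom
  haveI : N.Normal := Subgroup.Normal.map inferInstance _ φ.surjective
  have hN : T.system.U ≤ N := by
    intro g hg
    have hg' : (g : GL (Fin (m + m + 1)) F) ∈ unitriGL (m + m + 1) F := hg
    obtain ⟨k, hk⟩ := IsPGroup.iff_orderOf.mp (isPGroup_unitriGL (n := m + m + 1) (F := F) p) ⟨_, hg'⟩
    rw [Subgroup.orderOf_mk] at hk
    rw [Subgroup.orderOf_coe] at hk
    set h := φ.symm g with hh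
    have ho : orderOf h = p ^ k := by rw [hh, MulEquiv.orderOf_eq, hk]
    obtain ⟨j, hj⟩ := hp2.pow (n := k)
    refine ⟨h, ?_, φ.apply_symm_apply g⟩
    have hsq : h = h ^ (j + 1) * h ^ (j + 1) := by
      rw [← pow_add, show j + 1 + (j + 1) = p ^ k + 1 by omega, pow_succ, ← ho, pow_orderOf_eq_one,
        one_mul]
    rw [hsq]
    exact Orth.sq_mem_omega m h2 _
  obtain ⟨A, hA, hS, -⟩ := exists_sys (tw_hyp T p (by omega)) N hN
    (e.trans (centerQuot (Ω.equivMapOfInjective φ.toMonoidHom φ.injective)))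
  refine ⟨_, inferInstance, inferInstance, A, hA, fun proper h => ?_⟩
  have hd : ∀ (i : ℕ) (hi : 2 * i + 3 < m + m + 1), (⟨dbl i hi, (dbl_sgen hi).mem⟩ :
      ↥(TwData.symPerm (m + m + 1))) ∈ A.S := fun i hi => hS ▸ dbl_sgen hi
  have hp' := (swap_of_two h (hd 0 (by omega)) (hd 1 (by omega))
    (fun e' => dbl_ne (n := m + m + 1) (i := 0) (j := 1) (by omega) (by omega) (by omega)
      (congrArg Subtype.val e'))).1
  subst hp'
  exact absurd hp2 (by decide)

end

section Plus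

open OPlus

variable {F : Type} [Field F] [Fintype F] {p : ℕ} [hp : Fact p.Prime] [CharP F p]

theorem dbl_isDouble {m i : ℕ} (h : 2 * i + 3 < dim m) : IsDouble (dbl i h) :=
  ⟨⟨i, by omega⟩, ⟨i + 1, by omega⟩, rfl, dbl_lt h, rfl⟩

theorem good_omega_plus {K : Type*} [Group K] {k : ℕ} (hk : 4 ≤ k)
    (e : K ≃* Cfsg.POmega F (Cfsg.quadFormPlus k F)) : Good p K := by
  obtain ⟨m, rfl⟩ : ∃ m, k = m + 1 := ⟨k - 1, by omega⟩
  set Ω := Cfsg.Omega F (Cfsg.quadFormPlus (m + 1) F) with hΩ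
  set Ω' := Ω.map (isoO m F) with hΩ'
  let N : Subgroup ↥(GPlus m F) := Ω'.subgroupOf (GPlus m F)
  haveI : N.Normal := ⟨fun x hx g => by
    obtain ⟨a, ha, e⟩ := hx
    obtain ⟨b, hb⟩ : (g : GL (Fin (dim m)) F) ∈ (isoO m F).range := by
      rw [range_isoO]; exact GPlus_le_OGrp g.2
    refine ⟨b * a * b⁻¹, (inferInstance : Ω.Normal).conj_mem a ha b, ?_⟩
    rw [map_mul, map_mul, map_inv, hb, e]
    rfl⟩
  have hU : UPlus m F ≤ Ω' := by
    by_cases h2 : (2 : F) = 0
    · exact UPlus_le_omega_two h2 (Or.inr (by omega))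
    · exact UPlus_le_omega_odd p h2
  obtain ⟨A, hA, hS, -⟩ := exists_sys (plus_hyp p (by omega : 1 ≤ m)) N (fun u hu => hU hu)
    (e.trans (centerQuot ((Ω.equivMapOfInjective (isoO m F) isoO_injective).trans
      (Subgroup.subgroupOfEquivOfLe omega_le_GPlus).symm)))
  refine ⟨_, inferInstance, inferInstance, A, hA, fun proper h => ?_⟩
  have hd : ∀ (i : ℕ) (hi : 2 * i + 3 < dim m),
      (⟨dbl i hi, Subgroup.subset_closure ⟨_, dbl_isDouble hi, Or.inl rfl⟩⟩ : ↥(WPlus m)) ∈ A.S :=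
    fun i hi => hS ▸ ⟨_, dbl_isDouble hi, Or.inl rfl⟩
  exact (false_of_three h (hd 0 (by simp only [dim]; omega)) (hd 1 (by simp only [dim]; omega))
    (hd 2 (by simp only [dim]; omega))
    (fun e' => dbl_ne (n := dim m) (i := 0) (j := 1) (by simp only [dim]; omega)
      (by simp only [dim]; omega) (by omega) (congrArg Subtype.val e'))
    (fun e' => dbl_ne (n := dim m) (i := 0) (j := 2) (by simp only [dim]; omega)
      (by simp only [dim]; omega) (by omega) (congrArg Subtype.val e'))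
    (fun e' => dbl_ne (n := dim m) (i := 1) (j := 2) (by simp only [dim]; omega)
      (by simp only [dim]; omega) (by omega) (congrArg Subtype.val e'))).elim

end Plus

end Cfsg.Agent.H88.PMin
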