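import Cfsg.Agent.H88.PMin.Main
import Cfsg.Agent.H13.Split.Transfer
import Cfsg.Agent.H83.LieBN.Quot
import Cfsg.Prelude.Def_AlmostLie

/-!
Criteria excluding the exchange of two fundamental elements, and transport of a system to a central
quotient of a normal subgroup.
-/

set_option autoImplicit false
set_option linter.unusedSectionVars false

namespace Cfsg.Agent.H88.PMin

open Cfsg.Agent.H28 Cfsg.Agent.H54.BNC
open Cfsg.Agent.H37 (Tits.Ambient)
open Cfsg.Agent.H13.Split Cfsg.Agent.H83.DefChar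

/-- The three exceptions in characteristic two. -/
def Swapped (K : Type*) [Group K] : Prop :=
  (∃ (F : Type) (_ : Field F) (_ : Fintype F) (_ : CharP F 2),
      Nonempty (K ≃* Matrix.ProjectiveSpecialLinearGroup (Fin 3) F)) ∨
    (∃ (F : Type) (_ : Field F) (_ : Fintype F) (_ : CharP F 2), 4 ≤ Fintype.card F ∧
      Nonempty (K ≃* Cfsg.PSp 2 F)) ∨
    Nonempty (K ≃* ↥(alternatingGroup (Fin 6)))

/-- A system in which the rank cases lead to the conclusion. -/
def Good (p : ℕ) (K : Type*) [Group K] : Prop :=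
  ∃ (W : Type) (_ : Group W) (_ : Finite W) (A : Tits.Ambient K W), Hyp A p ∧
    ∀ proper : Prop, RankCases A p proper →
      Cfsg.IsLieRankOneChar p K ∨ (p = 2 ∧ proper ∧ Swapped K)

section

variable {G W : Type*} [Group G] [Group W] {A : Tits.Ambient G W} {p : ℕ} {proper : Prop}

theorem false_of_three (h : RankCases A p proper) {a b c : W} (ha : a ∈ A.S) (hb : b ∈ A.S)
    (hc : c ∈ A.S) (hab : a ≠ b) (hac : a ≠ c) (hbc : b ≠ c) : False := by
  rcases h with h | ⟨-, -, h, -⟩
  · exact hab (h ha hb)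
  · have h1 : ({a, b, c} : Set W) ⊆ A.S := by
      rintro x (rfl | rfl | rfl) <;> assumption
    have hfin : A.S.Finite := Set.finite_of_ncard_ne_zero (by omega)
    have := Set.ncard_le_ncard h1 hfin
    rw [h, Set.ncard_eq_three.2 ⟨a, b, c, hab, hac, hbc, rfl⟩] at this
    omega

theorem swap_of_two (h : RankCases A p proper) {a b : W} (ha : a ∈ A.S) (hb : b ∈ A.S) (hab : a ≠ b) :
    p = 2 ∧ proper ∧ A.S.ncard = 2 ∧ ∀ s ∈ A.S, ∀ t ∈ A.S, ∃ α : G ≃* G,
      A.U.map α.toMonoidHom = A.U ∧ (par A {s}).map α.toMonoidHom = par A {t} :=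
  h.resolve_left fun h => hab (h ha hb)

variable (hA : Hyp A p) [hp : Fact p.Prime] [Finite G] [Finite W]
include hA

theorem map_B_of_U {α : G ≃* G} (hα : A.U.map α.toMonoidHom = A.U) :
    A.B.map α.toMonoidHom = A.B := by
  refine Subgroup.eq_of_le_of_card_ge ?_
    (Subgroup.card_map_of_injective α.injective).ge
  rintro _ ⟨b, hb, rfl⟩
  refine hA.mem_B_iff.2 fun u hu => ?_
  rw [← hα] at hu ⊢
  obtain ⟨x, hx, rfl⟩ := hu
  exact ⟨b * x * b⁻¹, hA.mem_B_iff.1 hb x hx, by simp⟩

theorem false_of_asym (h : RankCases A p proper) {a b : W} (ha : a ∈ A.S) (hb : b ∈ A.S)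
    (hne : Nat.card (A.Uw a) ≠ Nat.card (A.Uw b)) : False := by
  obtain ⟨-, -, -, hsw⟩ := swap_of_two h ha hb fun e => hne (by rw [e])
  obtain ⟨α, hα, e⟩ := hsw a ha b hb
  exact hne (map_card hA (map_B_of_U hA hα) ha hb e)

/-- The centre of `U`. -/
def centerU (A : Tits.Ambient G W) : Subgroup G := A.U ⊓ Subgroup.centralizer (A.U : Set G)

theorem false_of_center (hs : IsSimpleGroup G) (h : RankCases A p proper) {a b : W} (ha : a ∈ A.S)
    (hb : b ∈ A.S) (hab : a ≠ b) (hne : centerU A ≠ ⊥)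
    (hnorm : ∀ z ∈ centerU A, A.n a * z * (A.n a)⁻¹ ∈ centerU A) : False := by
  obtain ⟨-, -, hcard, hsw⟩ := swap_of_two h ha hb hab
  obtain ⟨α, hα, e⟩ := hsw a ha b hb
  set N := Subgroup.normalizer (centerU A : Set G) with hN
  have hBN : A.B ≤ N := by
    intro g hg
    refine Subgroup.mem_normalizer_fintype fun z hz => ?_
    refine ⟨hA.mem_B_iff.1 hg z hz.1, Subgroup.mem_centralizer_iff.2 fun u hu => ?_⟩
    have h1 := Subgroup.mem_centralizer_iff.1 hz.2 _ (hA.mem_B_iff.1 (inv_mem hg) u hu)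
    calc u * (g * z * g⁻¹) = g * ((g⁻¹ * u * g⁻¹⁻¹) * z) * g⁻¹ := by group
      _ = g * z * g⁻¹ * u := by rw [h1]; group
  have hPa : par A {a} ≤ N := by
    refine sup_le hBN ?_
    rw [Subgroup.closure_le, Set.image_singleton, Set.singleton_subset_iff]
    exact Subgroup.mem_normalizer_fintype fun z hz => hnorm z hz
  have hmap : (centerU A).map α.toMonoidHom = centerU A := by
    refine Subgroup.eq_of_le_of_card_ge ?_ (Subgroup.card_map_of_injective α.injective).ge
    rintro _ ⟨z, hz, rfl⟩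
    refine ⟨hα ▸ Subgroup.mem_map_of_mem α.toMonoidHom hz.1, Subgroup.mem_centralizer_iff.2 fun u hu => ?_⟩
    rw [← hα] at hu
    obtain ⟨x, hx, rfl⟩ := hu
    show α x * α z = α z * α x
    rw [← map_mul, ← map_mul, Subgroup.mem_centralizer_iff.1 hz.2 x hx]
  have hPb : par A {b} ≤ N := by
    rw [← e]
    rintro _ ⟨g, hg, rfl⟩
    refine Subgroup.mem_normalizer_fintype fun z hz => ?_
    rw [← hmap] at hz
    obtain ⟨y, hy, rfl⟩ := hz
    rw [← hmap]
    exact ⟨g * y * g⁻¹, ((Subgroup.mem_normalizer_iff.1 (hPa hg)) y).1 hy, by simp⟩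
  have htop : N = ⊤ := by
    refine top_le_iff.1 ?_
    rw [← par_all hA]
    refine sup_le hBN ?_
    rw [Subgroup.closure_le]
    rintro _ ⟨r, hr, rfl⟩
    have hS : A.S = {a, b} := by
      refine (Set.eq_of_subset_of_ncard_le (Set.insert_subset ha (by simpa using hb)) ?_ A.S.toFinite).symm
      rw [hcard, Set.ncard_pair hab]
    rw [hS] at hr
    rcases hr with rfl | rfl
    · exact hPa (n_mem_par rfl)
    · exact hPb (n_mem_par rfl)
  rcases (Subgroup.normalizer_eq_top_iff.1 htop).eq_bot_or_eq_top with h1 | h1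
  · exact hne h1
  · obtain ⟨s, hs'⟩ := hA.nonempty
    exact S_ne_one A hs' (A.eq_one_of_n_mem_B
      (A.U_le_B ((h1 ▸ Subgroup.mem_top _ : A.n s ∈ centerU A).1)))

end

/-- The system on the central quotient of a normal subgroup containing `U`, with the same
fundamental elements and sizes. -/
theorem exists_sys {G : Type*} {W : Type} [Group G] [Group W] [Finite G] [Finite W]
    {A : Tits.Ambient G W} {p : ℕ} [Fact p.Prime] (hA : Hyp A p) (N : Subgroup G) [N.Normal]
    (hU : A.U ≤ N) {Q : Type*} [Group Q] (e : Q ≃* ↥N ⧸ Subgroup.center ↥N) :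
    ∃ A' : Tits.Ambient Q W, Hyp A' p ∧ A'.S = A.S ∧
      ∀ w, Nat.card (A'.Uw w) = Nat.card (A.Uw w) := by
  refine ⟨_, ((hA.restrict hU).quot (hA.restrict hU).center_le_H le_rfl).map e.symm, rfl, fun w => ?_⟩
  show Nat.card ↥((((Cfsg.Agent.H83.Classical.restrict A hU).Uw w).map
    (QuotientGroup.mk' (Subgroup.center ↥N))).map e.symm.toMonoidHom) = _
  rw [Subgroup.card_map_of_injective e.symm.injective,
    Cfsg.Agent.H83.LieBN.card_map_of_le (Cfsg.Agent.H83.Classical.restrict A hU) _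
      (by rw [QuotientGroup.ker_mk']; exact (hA.restrict hU).center_le_H)
      ((Cfsg.Agent.H83.Classical.restrict A hU).Uw_le w),
    Cfsg.Agent.H83.Classical.card_restrict_Uw]

/-- Transport along an isomorphism. -/
theorem map_sys {G : Type*} {W : Type} [Group G] [Group W] {A : Tits.Ambient G W} {p : ℕ}
    (hA : Hyp A p) {Q : Type*} [Group Q] (e : Q ≃* G) :
    ∃ A' : Tits.Ambient Q W, Hyp A' p ∧ A'.S = A.S ∧
      ∀ w, Nat.card (A'.Uw w) = Nat.card (A.Uw w) :=
  ⟨_, hA.map e.symm, rfl, fun _ => Subgroup.card_map_of_injective e.symm.injective⟩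

end Cfsg.Agent.H88.PMin
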