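import Cfsg.Agent.H88.PMin.Crit
import Cfsg.Agent.H83.DefChar.SplitAll
import Cfsg.Agent.H51.G2Coord

/-!
The exceptional and twisted groups: no two fundamental elements are exchanged.
-/

set_option autoImplicit false
set_option linter.unusedSectionVars false
set_option linter.style.haveILetI false

namespace Cfsg.Agent.H88.PMin

open Cfsg.Lie Cfsg.Agent.H37 Cfsg.Agent.H37.RootSys
open Cfsg.Agent.H13.Split Cfsg.Agent.H83.DefChar
open Cfsg.Agent.H37 (Tits.Ambient)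

section Untwisted

variable {D : ChevalleyDatum} {F : Type} [Field F] [Finite F] {p : ℕ} [hp : Fact p.Prime] [CharP F p]

theorem simple_ne (Q : H37.Chev.Data D F) {i j : Fin Q.X.n} (h : i ≠ j) :
    Q.X.M.simple i ≠ Q.X.M.simple j := fun e => h (Q.simple_inj (Q.sys.simple_inj e))

theorem good_chev {K : Type*} [Group K] (hD : D ∈ [chevG2, chevB2, chevD4, chevF4, chevE6, chevE7, chevE8])
    (h3 : 3 ≤ D.rank) (e : K ≃* ↥(D.group F)) : Good p K := by
  obtain ⟨Q, -⟩ := H37.Chev.exists_data hD F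
  haveI := H83.LieBN.finite_weyl Q
  obtain ⟨A, hA, hS, -⟩ := map_sys (H83.DefChar.chev_hyp Q p) e
  refine ⟨_, inferInstance, inferInstance, A, hA, fun proper h => ?_⟩
  have hn : 3 ≤ Q.X.n := Q.rank_eq ▸ h3
  have hmem : ∀ i : Fin Q.X.n, Q.X.M.simple i ∈ A.S := fun i => hS ▸ ⟨i, rfl⟩
  exact (false_of_three h (hmem ⟨0, by omega⟩) (hmem ⟨1, by omega⟩) (hmem ⟨2, by omega⟩)
    (simple_ne Q (by simp)) (simple_ne Q (by simp)) (simple_ne Q (by simp))).elim

theorem good_twist (Q : H37.Chev.Data D F) {E : H37.Twist.Endo Q} {W' : Type} [Group W']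
    {Φ : H37.Twist.Fold E W'} (Md : H37.Twist.Model Φ) {K : Type*} [Group K] (e : K ≃* ↥Md.T)
    {i j : Fin Φ.k} (hne : Q.X.good.inv (Φ.ι (Φ.gens i)) ≠ Q.X.good.inv (Φ.ι (Φ.gens j))) :
    Good p K := by
  haveI := H83.LieBN.finite_weyl Q
  haveI : Finite W' := Finite.of_injective Φ.ι Φ.ι_inj
  haveI : Finite K := Finite.of_equiv _ e.symm.toEquiv
  obtain ⟨A, hA, hS, hcard⟩ := map_sys (twist_hyp Q p Md) e
  refine ⟨_, inferInstance, inferInstance, A, hA, fun proper h => ?_⟩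
  refine (false_of_asym hA h (a := Φ.gens i) (b := Φ.gens j) (hS ▸ ⟨i, rfl⟩) (hS ▸ ⟨j, rfl⟩)
    fun he => hne ?_).elim
  rw [hcard, hcard] at he
  exact Nat.pow_right_injective Finite.one_lt_card
    (show Nat.card F ^ _ = Nat.card F ^ _ by rw [← Md.card_tw_Uw, ← Md.card_tw_Uw, he])

end Untwisted

section Twisted

variable {L : Type} [Field L] [Fintype L] {p : ℕ} [hp : Fact p.Prime] [CharP L p] {q : ℕ}

theorem good_E6 (hq : IsPrimePow q) (hK : Fintype.card L = q ^ 2) {K : Type*} [Group K]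
    (e : K ≃* ↥(Cfsg.Lie.twistedE6 L q)) : Good p K := by
  obtain ⟨φ, hφ⟩ := H37.Twist.exists_powHom hq hK
  refine good_twist _ (H37.Twist.E6.model hφ hK) e (i := (0 : Fin 4)) (j := (2 : Fin 4)) ?_
  rw [H37.Twist.E6.inv_ι, H37.Twist.E6.inv_ι]
  decide

theorem good_D4 (hq : IsPrimePow q) (hK : Fintype.card L = q ^ 3) {K : Type*} [Group K]
    (e : K ≃* ↥(Cfsg.Lie.twistedD4 L q)) : Good p K := by
  obtain ⟨φ, hφ⟩ := H37.Twist.exists_powHom hq hK
  refine good_twist _ (H37.Twist.D4.model hφ hK) e (i := (0 : Fin 2)) (j := (1 : Fin 2)) ?_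
  rw [H37.Twist.D4.inv_ι, H37.Twist.D4.inv_ι]
  decide

end Twisted

theorem good_F4 {L : Type} [Field L] [Fintype L] {m : ℕ} (hK : Fintype.card L = 2 ^ (2 * m + 1))
    {K : Type*} [Group K] (e : K ≃* ↥(Cfsg.Lie.twistedF4 L (2 ^ m))) : Good 2 K := by
  haveI := Fact.mk Nat.prime_two
  haveI : CharP L 2 := H37.Twist.charP_of_card Nat.prime_two hK
  obtain ⟨φ, hφ⟩ := H37.Twist.exists_iterHom L 2 m Nat.prime_two
  refine good_twist _ (H37.Twist.F4.model hφ hK) e (i := (0 : Fin 2)) (j := (1 : Fin 2)) ?_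
  rw [H37.Twist.F4.inv_gen, H37.Twist.F4.inv_gen]
  decide

/-! ### Type G₂ -/

section G2

open Cfsg.Agent.H51

variable {F : Type} [Field F] [Fintype F]

theorem exists_neg {n : ℕ} {M : CoxeterMatrix (Fin n)} {C : Weyl.Cert} {D : ChevalleyDatum}
    (hC : Weyl.Good C D M) (i : Fin n) (r : ℕ) (hr : r < D.nroots) :
    ((hC.hom (M.simple i) ⟨r, hr⟩).val) = C.sigma i r := by
  rw [hC.hom_simple, hC.sigmaPerm_val]

theorem g2_center [CharP F 2] (Q : Chev.Data chevG2 F) {g : ↥(chevG2.group F)} (hg : g ∈ Q.sys.U)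
    (hc : ∀ u ∈ Q.sys.U, u * g = g * u) : ∃ t, g = Q.sys.x 11 t := by
  obtain ⟨a, b, c, d, e, f, rfl⟩ := G2.exists_N Q hg
  have h6 := hc (G2.N Q 1 0 0 0 0 0) (G2.x6_eq Q (1 : F) ▸ Q.sys.x_mem_U (by decide) (by decide) 1)
  have h7 := hc (G2.N Q 0 1 0 0 0 0) (G2.x7_eq Q (1 : F) ▸ Q.sys.x_mem_U (by decide) (by decide) 1)
  rw [G2.mul_N, G2.mul_N] at h6 h7
  simp only [zero_add, add_zero, zero_mul, mul_zero, one_mul, mul_one, one_pow, ne_eq,
    OfNat.ofNat_ne_zero, not_false_eq_true, zero_pow] at h6 h7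
  obtain ⟨-, -, h6c, -, h6e, h6f⟩ := G2.N_inj Q h6
  obtain ⟨-, -, h7c, h7d, h7e, h7f⟩ := G2.N_inj Q h7
  have hb : b = 0 := by
    linear_combination (norm := ring_nf) -h6c
  subst hb
  simp only [zero_pow (show (3 : ℕ) ≠ 0 by norm_num), zero_pow (show (2 : ℕ) ≠ 0 by norm_num),
    add_zero, mul_zero, zero_add] at h6e h6f h7e h7f
  have he : e = 0 := by linear_combination (norm := ring_nf) -h6f
  have ha : a = 0 := by linear_combination (norm := ring_nf) h7c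
  subst ha
  simp only [zero_pow (show (3 : ℕ) ≠ 0 by norm_num), zero_pow (show (2 : ℕ) ≠ 0 by norm_num),
    add_zero, mul_zero, zero_mul, zero_add] at h7e h7f
  have hc2 : c ^ 2 = 0 := by linear_combination (norm := ring_nf) -h7f
  have hc0 : c = 0 := pow_eq_zero_iff (by norm_num) |>.1 hc2
  subst hc0
  have hd : d = 0 := by linear_combination (norm := ring_nf) -h7e
  subst hd he
  exact ⟨f, (G2.x11_eq Q f).symm⟩

theorem center_map {G G' W : Type*} [Group G] [Group G'] [Group W] (A : Tits.Ambient G W)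
    (f : G ≃* G') : centerU (A.map f) = (centerU A).map f.toMonoidHom := by
  ext x
  constructor
  · rintro ⟨⟨y, hy, rfl⟩, hc⟩
    refine ⟨y, ⟨hy, Subgroup.mem_centralizer_iff.2 fun u hu => f.injective ?_⟩, rfl⟩
    rw [map_mul, map_mul]
    exact Subgroup.mem_centralizer_iff.1 hc _ ⟨u, hu, rfl⟩
  · rintro ⟨y, ⟨hy, hc⟩, rfl⟩
    refine ⟨⟨y, hy, rfl⟩, Subgroup.mem_centralizer_iff.2 ?_⟩
    rintro _ ⟨u, hu, rfl⟩
    show f u * f y = f y * f u
    rw [← map_mul, Subgroup.mem_centralizer_iff.1 hc u hu, map_mul]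

theorem good_G2 {p : ℕ} [hp : Fact p.Prime] [CharP F p] {K : Type*} [Group K] [Finite K]
    (hs : IsSimpleGroup K) (e : K ≃* ↥(chevG2.group F)) : Good p K := by
  set Q := H37.Chev.dataG2 F
  haveI := H83.LieBN.finite_weyl Q
  have hA := (H83.DefChar.chev_hyp Q p).map e.symm
  refine ⟨_, inferInstance, inferInstance, _, hA, fun proper h => ?_⟩
  have hmem : ∀ i : Fin 2, Q.X.M.simple i ∈ (Q.amb.map e.symm).S := fun i => ⟨i, rfl⟩
  obtain ⟨rfl, -⟩ := swap_of_two h (hmem 0) (hmem 1)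
    (simple_ne Q (i := (0 : Fin 2)) (j := (1 : Fin 2)) (show (0 : Fin 2) ≠ 1 by decide))
  obtain ⟨i, hi⟩ : ∃ i : Fin 2, Weyl.certG2.sigma i.val 11 = 11 := by decide +kernel
  obtain ⟨j, hji⟩ : ∃ j : Fin 2, i ≠ j := by revert i; decide
  have hx : Q.sys.x 11 (1 : F) ∈ centerU Q.amb := by
    refine ⟨Q.sys.x_mem_U (by decide) (by decide) 1, Subgroup.mem_centralizer_iff.2 fun u hu => ?_⟩
    obtain ⟨a, b, c, d, e', f, rfl⟩ := G2.exists_N Q (show u ∈ Q.sys.U from hu)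
    rw [G2.x11_eq, G2.mul_N, G2.mul_N]
    simp only [zero_add, add_zero, zero_mul, mul_zero, ne_eq, OfNat.ofNat_ne_zero,
      not_false_eq_true, zero_pow]
    rw [add_comm]
  refine (false_of_center hA hs h (hmem i) (hmem j) (simple_ne Q hji) ?_ ?_).elim
  · rw [center_map]
    intro h0
    rw [Subgroup.map_eq_bot_iff_of_injective _ e.symm.injective] at h0
    rw [h0, Subgroup.mem_bot, G2.x11_eq] at hx
    exact one_ne_zero ((G2.N_inj Q (hx.trans (G2.N_zero Q).symm)).2.2.2.2.2)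
  · rw [center_map]
    rintro _ ⟨z, ⟨hzU, hzc⟩, rfl⟩
    obtain ⟨t, rfl⟩ := g2_center Q hzU (Subgroup.mem_centralizer_iff.1 hzc)
    refine ⟨Q.sys.rep (Q.X.M.simple i) * Q.sys.x 11 t * (Q.sys.rep (Q.X.M.simple i))⁻¹, ?_, by
      simp only [map_mul, map_inv]; rfl⟩
    obtain ⟨t', ht⟩ := Q.sys.rep_conj (Q.X.M.simple i) 11 (by decide) t
    rw [ht, show (Q.X.good.hom (Q.X.M.simple i) ⟨11, by decide⟩).val = 11 from
      (exists_neg Q.X.good i 11 _).trans hi]
    refine ⟨Q.sys.x_mem_U (by decide) (by decide) t', Subgroup.mem_centralizer_iff.2 fun u hu => ?_⟩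
    obtain ⟨a, b, c, d, e', f, rfl⟩ := G2.exists_N Q (show u ∈ Q.sys.U from hu)
    rw [G2.x11_eq, G2.mul_N, G2.mul_N]
    simp only [zero_add, add_zero, zero_mul, mul_zero, ne_eq, OfNat.ofNat_ne_zero,
      not_false_eq_true, zero_pow]
    rw [add_comm]

end G2

end Cfsg.Agent.H88.PMin
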