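import Cfsg.Agent.H88.PMin.Abstract
import Cfsg.Agent.H13.Split.Small

/-!
`PSL₂(8)` for the prime three and `A₆` for the prime two.
-/

set_option autoImplicit false
set_option linter.unusedSectionVars false
set_option maxRecDepth 100000
set_option synthInstance.maxSize 4000
set_option synthInstance.maxHeartbeats 400000

namespace Cfsg.Agent.H88.PMin

universe u

section Eight

variable {G : Type*} [Group G] [Finite G]

/-- In `PSL₂(8)` the normaliser of a Sylow 3-subgroup is maximal. -/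
theorem maximal_psl_two_eight {F : Type} [Field F] [Fintype F] (hF : Fintype.card F = 8)
    (e : G ≃* Matrix.ProjectiveSpecialLinearGroup (Fin 2) F) [Fact (Nat.Prime 3)] (U : Sylow 3 G)
    (L : Subgroup G) (hle : Subgroup.normalizer ((U : Subgroup G) : Set G) ≤ L) (hL : L ≠ ⊤) :
    L ≤ Subgroup.normalizer ((U : Subgroup G) : Set G) := by
  haveI := Fact.mk Nat.prime_two
  haveI : CharP F 2 := charP_of_card_eq_prime_pow (p := 2) (f := 3) (by rw [hF]; norm_num)
  haveI : IsSimpleGroup G := H83.isSimpleGroup_of_isLieTypeChar (p := 2)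
    (Or.inl ⟨F, inferInstance, inferInstance, inferInstance, 2, le_rfl, fun _ => by omega, ⟨e⟩⟩)
  have hG : Nat.card G = 504 := by
    have h := Linear.card_PSL_two_mul (F := F)
    rw [hF] at h
    norm_num at h
    rw [Nat.card_congr e.toEquiv]
    omega
  have hord : ∀ x : G, orderOf x ≠ 6 := by
    intro x hx
    have h : (6 : ℕ) ∈ Set.range (orderOf : Matrix.ProjectiveSpecialLinearGroup (Fin 2) F → ℕ) :=
      ⟨e x, by rw [MulEquiv.orderOf_eq, hx]⟩
    rw [H68.FrobField.range_orderOf_psl 2 (by omega), hF] at h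
    revert h
    simp
  have hU : Nat.card ↥(U : Subgroup G) = 9 := by
    rw [Sylow.card_eq_multiplicity, hG, show (504 : ℕ) = 3 ^ 2 * 56 by norm_num,
      Nat.factorization_mul (by norm_num) (by norm_num), Finsupp.add_apply,
      Nat.factorization_eq_zero_of_not_dvd (show ¬ 3 ∣ 56 by norm_num),
      Nat.prime_three.factorization_pow, Finsupp.single_eq_same]
    rfl
  set N := Subgroup.normalizer ((U : Subgroup G) : Set G) with hN
  have hUL : (U : Subgroup G) ≤ L := Subgroup.le_normalizer.trans hle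
  have hNn : N ≠ ⊤ := fun h => hL (top_le_iff.1 (h ▸ hle))
  have hmulN := N.card_mul_index
  have hmulL := L.card_mul_index
  rw [hG] at hmulN hmulL
  have hs := card_sylow_modEq_one 3 G
  rw [U.card_eq_index_normalizer] at hs
  change N.index % 3 = 1 % 3 at hs
  have hN9 : 9 ∣ Nat.card N := hU ▸ Subgroup.card_dvd_of_le Subgroup.le_normalizer
  have hd56 : N.index ∣ 56 := by
    obtain ⟨k, hk⟩ := hN9
    exact ⟨k, by rw [hk] at hmulN; linarith⟩
  have hf : ∀ M : Subgroup G, M ≠ ⊤ → 7 ≤ M.index := by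
    intro M hM
    have h := H13.Split.card_dvd_factorial hM
    rw [hG] at h
    by_contra hlt
    interval_cases M.index <;> norm_num [Nat.factorial] at h
  have hN28 : N.index = 7 ∨ N.index = 28 := by
    have h7 := hf N hNn
    have hm : N.index ∈ Nat.divisors 56 := Nat.mem_divisors.2 ⟨hd56, by norm_num⟩
    rw [show Nat.divisors 56 = {1, 2, 4, 7, 8, 14, 28, 56} by decide] at hm
    simp only [Finset.mem_insert, Finset.mem_singleton] at hm
    rcases hm with e | e | e | e | e | e | e | e <;> omega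
  have hLd : L.index ∣ N.index := Subgroup.index_dvd_of_le hle
  have hL7 := hf L hL
  by_contra hne
  have hne' : N.index ≠ L.index := by
    intro h
    refine hne (le_of_eq (Subgroup.eq_of_le_of_card_ge hle ?_).symm)
    rw [h] at hmulN
    exact le_of_eq (Nat.eq_of_mul_eq_mul_right (show 0 < L.index by omega) (hmulL.trans hmulN.symm))
  obtain ⟨h28, hL'⟩ : N.index = 28 ∧ (L.index = 7 ∨ L.index = 14) := by
    rcases hN28 with h | h <;> rw [h] at hLd hne'
    · rcases (Nat.dvd_prime (by norm_num : Nat.Prime 7)).1 hLd with e | e <;> omega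
    · have hm : L.index ∈ Nat.divisors 28 := Nat.mem_divisors.2 ⟨hLd, by norm_num⟩
      rw [show Nat.divisors 28 = {1, 2, 4, 7, 14, 28} by decide] at hm
      simp only [Finset.mem_insert, Finset.mem_singleton] at hm
      exact ⟨h, by rcases hm with e | e | e | e | e | e <;> omega⟩
  -- the core
  have hcore : Cfsg.pCore 3 ↥L ≠ ⊥ := fun h => hL (H13.Split.psl_two_eight hF e L h (by
    rcases hL' with e | e <;> rw [e] <;> norm_num))
  set R := Cfsg.pCore 3 ↥L with hR
  have hRU : R ≤ (U : Subgroup G).subgroupOf L := Cores.pCore_le_sylow (U.subtype hUL)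
  have hUs : Nat.card ↥((U : Subgroup G).subgroupOf L) = 9 := by
    rw [Nat.card_congr (Subgroup.subgroupOfEquivOfLe hUL).toEquiv, hU]
  have hRd : Nat.card R ∈ Nat.divisors 9 :=
    Nat.mem_divisors.2 ⟨hUs ▸ Subgroup.card_dvd_of_le hRU, by norm_num⟩
  rw [show Nat.divisors 9 = {1, 3, 9} by decide] at hRd
  simp only [Finset.mem_insert, Finset.mem_singleton] at hRd
  rcases hRd with hc | hc | hc
  · exact hcore (Subgroup.card_eq_one.1 hc)
  · -- an involution centralises the core
    haveI := Fact.mk (Nat.prime_two)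
    let f : ↥L →* MulAut ↥R := MulAut.conjNormal
    have h1 := f.ker.card_mul_index
    rw [Subgroup.index_ker] at h1
    have hr : Nat.card f.range ∣ 2 := by
      refine (Subgroup.card_subgroup_dvd_card f.range).trans ?_
      haveI : IsCyclic ↥R := isCyclic_of_prime_card hc
      rw [IsCyclic.card_mulAut, hc, Nat.totient_prime Nat.prime_three]
    have h2 : 2 ∣ Nat.card f.ker := by
      rcases (Nat.dvd_prime Nat.prime_two).1 hr with e | e <;> rw [e] at h1 <;>
        rcases hL' with e' | e' <;> rw [e'] at hmulL <;> omega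
    obtain ⟨t, ht⟩ := exists_prime_orderOf_dvd_card' (G := ↥f.ker) 2 h2
    obtain ⟨r, hr3⟩ := exists_prime_orderOf_dvd_card' (G := ↥R) 3 (by rw [hc])
    have hcomm : Commute (t : ↥L) (r : ↥L) := by
      have h := congrArg (fun a : MulAut ↥R => ((a r : ↥R) : ↥L)) (MonoidHom.mem_ker.1 t.2)
      simp only [f, MulAut.conjNormal_apply, MulAut.one_apply] at h
      exact mul_inv_eq_iff_eq_mul.1 h
    have h6 := hcomm.orderOf_mul_eq_mul_orderOf_of_coprime (by
      rw [Subgroup.orderOf_coe, Subgroup.orderOf_coe, ht, hr3]; norm_num)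
    rw [Subgroup.orderOf_coe, Subgroup.orderOf_coe, ht, hr3] at h6
    exact hord (((t : ↥L) * (r : ↥L) : ↥L) : G) (by rw [Subgroup.orderOf_coe, h6])
  · have heq : R = (U : Subgroup G).subgroupOf L :=
      Subgroup.eq_of_le_of_card_ge hRU (by rw [hUs, hc])
    refine hne fun g hg => Subgroup.mem_normalizer_fintype fun x hx => ?_
    have := (inferInstance : R.Normal).conj_mem (⟨x, hUL hx⟩ : ↥L) (by rw [heq]; exact hx) ⟨g, hg⟩
    rw [heq] at this
    exact this

end Eight

namespace AS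

open Equiv

abbrev A6 : Type := ↥(alternatingGroup (Fin 6))

/-- A duad. -/
def t1 : Perm (Fin 6) := swap 4 5

/-- A syntheme. -/
def t2 : Perm (Fin 6) := swap 0 2 * swap 1 3 * swap 4 5

/-- The elements commuting with a permutation. -/
def fx (t : Perm (Fin 6)) : Subgroup A6 :=
  (Subgroup.centralizer ({t} : Set (Perm (Fin 6)))).comap (alternatingGroup (Fin 6)).subtype

theorem mem_fx {t : Perm (Fin 6)} {g : A6} :
    g ∈ fx t ↔ (g : Perm (Fin 6)) * t = t * (g : Perm (Fin 6)) := Subgroup.mem_centralizer_singleton_iff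

instance (t : Perm (Fin 6)) : DecidablePred (fun g : A6 => (g : Perm (Fin 6)) * t = t * g) :=
  fun _ => inferInstance

theorem card_fx :
    Fintype.card {g : A6 // (g : Perm (Fin 6)) * t1 = t1 * g} = 24 ∧
    Fintype.card {g : A6 // (g : Perm (Fin 6)) * t2 = t2 * g} = 24 ∧
    Fintype.card {g : A6 // (g : Perm (Fin 6)) * t1 = t1 * g ∧ (g : Perm (Fin 6)) * t2 = t2 * g} = 8 := by
  decide +kernel

/-- A fourgroup element. -/
def u1 : A6 := ⟨swap 0 1 * swap 2 3, by simp⟩

/-- An element of the other fourgroup. -/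
def u2 : A6 := ⟨swap 0 2 * swap 4 5, by simp⟩

/-- The central involution. -/
def uz : A6 := ⟨swap 0 2 * swap 1 3, by simp⟩

/-- Membership in the Sylow subgroup. -/
abbrev InU (g : A6) : Prop :=
  (g : Perm (Fin 6)) * t1 = t1 * g ∧ (g : Perm (Fin 6)) * t2 = t2 * g

theorem u_facts : InU u1 ∧ InU u2 ∧ InU uz ∧ uz * uz = 1 ∧ uz ≠ 1 ∧ uz * u1 = u1 * uz ∧
    uz * u2 = u2 * uz := by
  decide +kernel

theorem facts : ∀ g : A6,
    (InU g → g * u1 = u1 * g → g * u2 = u2 * g → g = 1 ∨ g = uz) ∧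
    (g * uz = uz * g → InU g) ∧
    (InU g → g ≠ 1 → g ≠ uz → (g = u1 ∨ g = uz * u1) ∨ (g = u2 ∨ g = uz * u2) ∨ (g = u1 * u2 ∨ g = uz * (u1 * u2))) ∧
    ((g * uz = uz * g ∨ g * uz = u1 * g ∨ g * uz = uz * u1 * g) → (g * u1 = uz * g ∨ g * u1 = u1 * g ∨ g * u1 = uz * u1 * g) → (g : Perm (Fin 6)) * t1 = t1 * g ∨ (g : Perm (Fin 6)) * t2 = t2 * g) ∧
    ((g * uz = uz * g ∨ g * uz = u2 * g ∨ g * uz = uz * u2 * g) → (g * u2 = uz * g ∨ g * u2 = u2 * g ∨ g * u2 = uz * u2 * g) → (g : Perm (Fin 6)) * t1 = t1 * g ∨ (g : Perm (Fin 6)) * t2 = t2 * g) ∧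
    ((g * uz = uz * g ∨ g * uz = u1 * u2 * g ∨ g * uz = uz * (u1 * u2) * g) → (g * (u1 * u2) = uz * g ∨ g * (u1 * u2) = u1 * u2 * g ∨ g * (u1 * u2) = uz * (u1 * u2) * g) → (g : Perm (Fin 6)) * t1 = t1 * g ∨ (g : Perm (Fin 6)) * t2 = t2 * g) := by
  decide +kernel

theorem center_U : ∀ x : A6, InU x → x * u1 = u1 * x → x * u2 = u2 * x → x = 1 ∨ x = uz :=
  fun x => (facts x).1

theorem cent_z : ∀ g : A6, g * uz = uz * g → InU g :=
  fun g => (facts g).2.1

theorem four_cases : ∀ r : A6, InU r → r ≠ 1 → r ≠ uz → (r = u1 ∨ r = uz * u1) ∨ (r = u2 ∨ r = uz * u2) ∨ (r = u1 * u2 ∨ r = uz * (u1 * u2)) :=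
  fun r => (facts r).2.2.1

theorem norm_u1 : ∀ g : A6, (g * uz = uz * g ∨ g * uz = u1 * g ∨ g * uz = uz * u1 * g) → (g * u1 = uz * g ∨ g * u1 = u1 * g ∨ g * u1 = uz * u1 * g) → (g : Perm (Fin 6)) * t1 = t1 * g ∨ (g : Perm (Fin 6)) * t2 = t2 * g :=
  fun g => (facts g).2.2.2.1

theorem norm_u2 : ∀ g : A6, (g * uz = uz * g ∨ g * uz = u2 * g ∨ g * uz = uz * u2 * g) → (g * u2 = uz * g ∨ g * u2 = u2 * g ∨ g * u2 = uz * u2 * g) → (g : Perm (Fin 6)) * t1 = t1 * g ∨ (g : Perm (Fin 6)) * t2 = t2 * g :=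
  fun g => (facts g).2.2.2.2.1

theorem norm_u12 : ∀ g : A6, (g * uz = uz * g ∨ g * uz = u1 * u2 * g ∨ g * uz = uz * (u1 * u2) * g) → (g * (u1 * u2) = uz * g ∨ g * (u1 * u2) = u1 * u2 * g ∨ g * (u1 * u2) = uz * (u1 * u2) * g) → (g : Perm (Fin 6)) * t1 = t1 * g ∨ (g : Perm (Fin 6)) * t2 = t2 * g :=
  fun g => (facts g).2.2.2.2.2

theorem inU_iff {g : A6} : g ∈ fx t1 ⊓ fx t2 ↔ InU g :=
  Subgroup.mem_inf.trans (and_congr mem_fx mem_fx)

theorem eq_uz {x : A6} (hx : InU x) (hne : x ≠ 1) (hc : ∀ u, InU u → x * u = u * x) : x = uz :=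
  (center_U x hx (hc _ u_facts.1) (hc _ u_facts.2.1)).resolve_left hne

theorem self_norm (g : A6) (h : ∀ u : A6, (u : Perm (Fin 6)) * t1 = t1 * u →
      (u : Perm (Fin 6)) * t2 = t2 * u →
      ((g * u * g⁻¹ : A6) : Perm (Fin 6)) * t1 = t1 * ((g * u * g⁻¹ : A6) : Perm (Fin 6)) ∧
      ((g * u * g⁻¹ : A6) : Perm (Fin 6)) * t2 = t2 * ((g * u * g⁻¹ : A6) : Perm (Fin 6))) :
    (g : Perm (Fin 6)) * t1 = t1 * g ∧ (g : Perm (Fin 6)) * t2 = t2 * g := by
  obtain ⟨h1, h2, hz, -, hz1, hc1, hc2⟩ := u_facts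
  refine cent_z g ?_
  have hmap : (fx t1 ⊓ fx t2).map (MulAut.conj g).toMonoidHom = fx t1 ⊓ fx t2 :=
    Subgroup.eq_of_le_of_card_ge
      (by rintro _ ⟨u, hu, rfl⟩; exact inU_iff.2 (h u (inU_iff.1 hu).1 (inU_iff.1 hu).2))
      (Subgroup.card_map_of_injective (MulAut.conj g).injective).ge
  have hx : g * uz * g⁻¹ = uz := by
    refine eq_uz (h uz hz.1 hz.2) (fun e => hz1 (conj_eq_one_iff.1 e))
      fun u hu => ?_
    obtain ⟨v, hv, rfl⟩ : u ∈ (fx t1 ⊓ fx t2).map (MulAut.conj g).toMonoidHom :=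
      hmap.symm ▸ inU_iff.2 hu
    have hzv : uz * v = v * uz := by
      obtain ⟨e1, e2⟩ := inU_iff.1 hv
      refine Subtype.ext ?_
      have hval : (uz : Perm (Fin 6)) = t2 * t1 := by decide +kernel
      show (uz : Perm (Fin 6)) * (v : Perm (Fin 6)) = (v : Perm (Fin 6)) * (uz : Perm (Fin 6))
      rw [hval, mul_assoc, ← e1, ← mul_assoc, ← e2, mul_assoc]
    show g * uz * g⁻¹ * (g * v * g⁻¹) = g * v * g⁻¹ * (g * uz * g⁻¹)
    rw [show g * uz * g⁻¹ * (g * v * g⁻¹) = g * (uz * v) * g⁻¹ by group, hzv]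
    group
  exact mul_inv_eq_iff_eq_mul.1 hx

theorem nat_card : Nat.card ↥(fx t1) = 24 ∧ Nat.card ↥(fx t2) = 24 ∧
    Nat.card ↥(fx t1 ⊓ fx t2) = 8 := by
  refine ⟨?_, ?_, ?_⟩
  · exact (Nat.card_congr (Equiv.subtypeEquivRight fun g => mem_fx)).trans
      (Nat.card_eq_fintype_card.trans card_fx.1)
  · exact (Nat.card_congr (Equiv.subtypeEquivRight fun g => mem_fx)).trans
      (Nat.card_eq_fintype_card.trans card_fx.2.1)
  · exact (Nat.card_congr (Equiv.subtypeEquivRight fun g =>
      Subgroup.mem_inf.trans (and_congr mem_fx mem_fx))).trans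
      (Nat.card_eq_fintype_card.trans card_fx.2.2)

theorem card_A6 : Nat.card A6 = 360 := by
  rw [nat_card_alternatingGroup, Nat.card_eq_fintype_card, Fintype.card_fin]
  rfl

/-- The proper overgroups of a Sylow 2-subgroup. -/
theorem overgroups (L : Subgroup A6) (hle : fx t1 ⊓ fx t2 ≤ L) (hL : L ≠ ⊤) :
    L = fx t1 ⊓ fx t2 ∨ L = fx t1 ∨ L = fx t2 := by
  haveI : IsSimpleGroup A6 :=
    alternatingGroup.isSimpleGroup (by rw [Nat.card_eq_fintype_card, Fintype.card_fin]; norm_num)
  haveI := Fact.mk Nat.prime_two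
  obtain ⟨c1, c2, c12⟩ := nat_card
  obtain ⟨k, hk⟩ : 8 ∣ Nat.card L := c12 ▸ Subgroup.card_dvd_of_le hle
  have hm := L.card_mul_index
  rw [card_A6, hk] at hm
  have hk45 : k ∈ Nat.divisors 45 := Nat.mem_divisors.2 ⟨⟨L.index, by linarith⟩, by norm_num⟩
  rw [show Nat.divisors 45 = {1, 3, 5, 9, 15, 45} by decide] at hk45
  simp only [Finset.mem_insert, Finset.mem_singleton] at hk45
  have hf := H13.Split.card_dvd_factorial hL
  rw [card_A6] at hf
  rcases hk45 with rfl | rfl | rfl | rfl | rfl | rfl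
  · exact Or.inl (Subgroup.eq_of_le_of_card_ge hle (by omega)).symm
  · -- order twenty-four
    set R := (Cfsg.pCore 2 ↥L).map L.subtype with hR
    have hRb : R ≠ ⊥ := fun h => hL (H13.Split.alt_six (MulEquiv.refl _) L
      ((Subgroup.map_eq_bot_iff_of_injective _ L.subtype_injective).1 h) (by
        rw [show L.index = 15 by omega]; norm_num))
    have hRU : R ≤ fx t1 ⊓ fx t2 := by
      let P : Sylow 2 ↥L := Sylow.ofCard ((fx t1 ⊓ fx t2).subgroupOf L) (by
        rw [Nat.card_congr (Subgroup.subgroupOfEquivOfLe hle).toEquiv, c12, hk,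
          show 8 * 3 = 2 ^ 3 * 3 by norm_num, Nat.factorization_mul (by norm_num) (by norm_num),
          Finsupp.add_apply, Nat.factorization_eq_zero_of_not_dvd (show ¬ 2 ∣ 3 by norm_num),
          Nat.prime_two.factorization_pow, Finsupp.single_eq_same]
        norm_num)
      rintro _ ⟨x, hx, rfl⟩
      exact (Cores.pCore_le_sylow P : Cfsg.pCore 2 ↥L ≤ _) hx
    have hRn : ∀ g ∈ L, ∀ x ∈ R, g * x * g⁻¹ ∈ R := by
      rintro g hg _ ⟨x, hx, rfl⟩
      exact ⟨⟨g, hg⟩ * x * (⟨g, hg⟩ : ↥L)⁻¹,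
        (inferInstance : (Cfsg.pCore 2 ↥L).Normal).conj_mem x hx _, rfl⟩
    obtain ⟨hu1, hu2, huz, hz2, hz1, -, -⟩ := u_facts
    -- the central involution lies in the core
    have hzR : uz ∈ R := by
      obtain ⟨x, hxR, hx1⟩ := (Subgroup.bot_or_exists_ne_one R).resolve_left hRb
      by_contra hzR
      have hxU := inU_iff.1 (hRU hxR)
      have hne : ∀ u, InU u → x * u = u * x := by
        intro u hu
        by_contra hne
        have h1 := mul_mem (hRn u (hle (inU_iff.2 hu)) x hxR) (inv_mem hxR)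
        have hcomm : ∀ u x : A6, InU u → InU x → ¬ x * u = u * x → u * x * u⁻¹ * x⁻¹ = uz := by
          have key : ∀ x : A6, InU x → ∀ u : A6, InU u → ¬ x * u = u * x →
              u * x * u⁻¹ * x⁻¹ = uz := by decide +kernel
          exact fun u x hu hx => key x hx u hu
        rw [hcomm u x hu hxU hne] at h1
        exact hzR h1
      exact hzR (eq_uz hxU hx1 hne ▸ hxR)
    by_cases hbig : ∃ r ∈ R, r ≠ 1 ∧ r ≠ uz
    swap
    · -- the core has order two
      push Not at hbig
      refine Or.inl (le_antisymm (fun g hg => inU_iff.2 (cent_z g ?_)) hle)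
      have h1 := hRn g hg uz hzR
      rcases eq_or_ne (g * uz * g⁻¹) 1 with h | h
      · exact absurd (conj_eq_one_iff.1 h) hz1
      · exact mul_inv_eq_iff_eq_mul.1 (hbig _ h1 h)
    obtain ⟨r, hrR, hr1, hrz⟩ := hbig
    have hrU := inU_iff.1 (hRU hrR)
    have hzr : uz * r ∈ R := mul_mem hzR hrR
    by_cases hfour : ∀ x ∈ R, x = 1 ∨ x = uz ∨ x = r ∨ x = uz * r
    swap
    · -- the core is the Sylow subgroup
      push Not at hfour
      obtain ⟨x, hxR, h1, h2, h3, h4⟩ := hfour
      have hcard : Nat.card R = 8 := by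
        have hd : Nat.card R ∣ 2 ^ 3 := (Subgroup.card_dvd_of_le hRU).trans c12.dvd
        have hfive : 5 ≤ Nat.card R := by
          classical
          have hs : ({1, uz, r, uz * r, x} : Finset A6).card = 5 := by
            have e1 : uz * r ≠ 1 := fun e => hrz (by
              rw [← one_mul r, ← hz2, mul_assoc, e, mul_one])
            have e2 : uz * r ≠ uz := fun e => hr1 (mul_eq_left.1 e)
            have e3 : uz * r ≠ r := fun e => hz1 (mul_eq_right.1 e)
            simp [Finset.card_insert_of_notMem, hz1.symm, hr1.symm, hrz.symm, e1.symm, e2.symm,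
              e3.symm, Ne.symm h1, Ne.symm h2, Ne.symm h3, Ne.symm h4]
          rw [← hs, ← Nat.card_eq_finsetCard]
          refine Nat.card_le_card_of_injective (fun y => (⟨y.1, ?_⟩ : ↥R))
            fun a b e => Subtype.ext (Subtype.mk_eq_mk.1 e)
          have hy := y.2
          simp only [Finset.mem_insert, Finset.mem_singleton] at hy
          rcases hy with e | e | e | e | e <;> rw [e]
          exacts [one_mem _, hzR, hrR, hzr, hxR]
        obtain ⟨i, hi, e⟩ := (Nat.dvd_prime_pow Nat.prime_two).1 hd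
        interval_cases i <;> simp_all
      have heq : R = fx t1 ⊓ fx t2 := Subgroup.eq_of_le_of_card_ge hRU (by rw [c12, hcard])
      refine Or.inl (le_antisymm (fun g hg => inU_iff.2 ?_) hle)
      refine self_norm g fun u h1 h2 => ?_
      exact inU_iff.1 (heq ▸ hRn g hg u (heq ▸ inU_iff.2 ⟨h1, h2⟩))
    -- the core is a fourgroup
    have hcases : ∀ g ∈ L, ∀ y ∈ R, y ≠ 1 → g * y = uz * g ∨ g * y = r * g ∨ g * y = uz * r * g := by
      intro g hg y hy hy1
      rcases hfour _ (hRn g hg y hy) with h | h | h | h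
      · exact absurd (conj_eq_one_iff.1 h) hy1
      · exact Or.inl (mul_inv_eq_iff_eq_mul.1 h)
      · exact Or.inr (Or.inl (mul_inv_eq_iff_eq_mul.1 h))
      · exact Or.inr (Or.inr (mul_inv_eq_iff_eq_mul.1 h))
    have hsub : ∀ g ∈ L, g ∈ fx t1 ∨ g ∈ fx t2 := by
      intro g hg
      rw [mem_fx, mem_fx]
      have key : ∀ s, (r = s ∨ r = uz * s) →
          (s ∈ R ∧ s ≠ 1) ∧ ((g * uz = uz * g ∨ g * uz = s * g ∨ g * uz = uz * s * g) ∧
            (g * s = uz * g ∨ g * s = s * g ∨ g * s = uz * s * g)) := by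
        intro s hs
        have hsR : s ∈ R := by
          rcases hs with e | e
          · exact e ▸ hrR
          · have := hzr; rw [e, ← mul_assoc, hz2, one_mul] at this; exact this
        have hs1 : s ≠ 1 := by
          rintro rfl
          rcases hs with e | e
          exacts [hr1 e, hrz (e.trans (mul_one _))]
        refine ⟨⟨hsR, hs1⟩, ?_⟩
        have h1 := hcases g hg uz hzR hz1
        have h2 := hcases g hg s hsR hs1
        rcases hs with rfl | rfl
        · exact ⟨h1, h2⟩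
        · simp only [← mul_assoc uz uz, hz2, one_mul] at h1 h2
          exact ⟨h1.imp_right Or.symm, h2.imp_right Or.symm⟩
      rcases four_cases r hrU hr1 hrz with h | h | h
      · exact norm_u1 g (key u1 h).2.1 (key u1 h).2.2
      · exact norm_u2 g (key u2 h).2.1 (key u2 h).2.2
      · exact norm_u12 g (key _ h).2.1 (key _ h).2.2
    have hor : L ≤ fx t1 ∨ L ≤ fx t2 := by
      by_contra hcon
      simp only [SetLike.le_def, not_or, not_forall] at hcon
      obtain ⟨⟨a, ha, ha1⟩, b, hb, hb2⟩ := hcon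
      have ha2 := (hsub a ha).resolve_left ha1
      have hb1 := (hsub b hb).resolve_right hb2
      rcases hsub _ (mul_mem ha hb) with h | h
      · exact ha1 (((fx t1).mul_mem_cancel_right hb1).1 h)
      · exact hb2 (((fx t2).mul_mem_cancel_left ha2).1 h)
    rcases hor with h | h
    · exact Or.inr (Or.inl (Subgroup.eq_of_le_of_card_ge h (by omega)))
    · exact Or.inr (Or.inr (Subgroup.eq_of_le_of_card_ge h (by omega)))
  · -- order forty
    exfalso
    haveI := Fact.mk (by norm_num : Nat.Prime 5)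
    obtain ⟨P⟩ : Nonempty (Sylow 5 ↥L) := inferInstance
    have hPn : (P : Subgroup ↥L).Normal := by
      have hd := P.card_dvd_index
      have hi := (P : Subgroup ↥L).card_mul_index
      have hP5 : Nat.card ↥(P : Subgroup ↥L) = 5 := by
        rw [Sylow.card_eq_multiplicity, hk, show 8 * 5 = 5 ^ 1 * 8 by norm_num,
          Nat.factorization_mul (by norm_num) (by norm_num), Finsupp.add_apply,
          Nat.factorization_eq_zero_of_not_dvd (show ¬ 5 ∣ 8 by norm_num),
          Fact.out (p := Nat.Prime 5) |>.factorization_pow, Finsupp.single_eq_same]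
        norm_num
      rw [hP5, hk] at hi
      rw [show (P : Subgroup ↥L).index = 8 by omega] at hd
      have hs := card_sylow_modEq_one 5 ↥L
      have hle8 := Nat.le_of_dvd (by norm_num) hd
      unfold Nat.ModEq at hs
      have hcases : Nat.card (Sylow 5 ↥L) = 1 := by
        interval_cases hn : Nat.card (Sylow 5 ↥L) <;> omega
      haveI : Subsingleton (Sylow 5 ↥L) := (Nat.card_eq_one_iff_unique.1 hcases).1
      exact Sylow.normal_of_subsingleton P
    -- the Sylow subgroup of `L` is normalised by a subgroup of odd index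
    let Q : Sylow 5 A6 := (P.isPGroup'.map L.subtype).toSylow (by
      rw [Subgroup.index_map_subtype]
      refine Nat.Prime.not_dvd_mul Fact.out (Sylow.not_dvd_index P) ?_
      rw [show L.index = 9 by omega]
      norm_num)
    have hN : L ≤ Subgroup.normalizer ((Q : Subgroup A6) : Set A6) := by
      intro g hg
      refine Subgroup.mem_normalizer_fintype ?_
      rintro _ ⟨y, hy, rfl⟩
      exact ⟨⟨g, hg⟩ * y * (⟨g, hg⟩ : ↥L)⁻¹, hPn.conj_mem y hy _, rfl⟩
    have hs := card_sylow_modEq_one 5 A6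
    rw [Q.card_eq_index_normalizer] at hs
    unfold Nat.ModEq at hs
    change (Subgroup.normalizer ((Q : Subgroup A6) : Set A6)).index % 5 = 1 % 5 at hs
    have hd9 : (Subgroup.normalizer ((Q : Subgroup A6) : Set A6)).index ∣ 9 := by
      rw [show 9 = L.index by omega]
      exact Subgroup.index_dvd_of_le hN
    rcases (Nat.dvd_prime_pow Nat.prime_three).1 (show _ ∣ 3 ^ 2 from hd9) with ⟨i, hi, e⟩
    rw [e] at hs
    interval_cases i
    · have htop := Subgroup.index_eq_one.1 e
      have hQn : (Q : Subgroup A6).Normal := Subgroup.normalizer_eq_top_iff.1 htop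
      have hQ5 : Nat.card ↥(Q : Subgroup A6) = 5 := by
        rw [Sylow.card_eq_multiplicity, card_A6, show 360 = 5 ^ 1 * 72 by norm_num,
          Nat.factorization_mul (by norm_num) (by norm_num), Finsupp.add_apply,
          Nat.factorization_eq_zero_of_not_dvd (show ¬ 5 ∣ 72 by norm_num),
          Fact.out (p := Nat.Prime 5) |>.factorization_pow, Finsupp.single_eq_same]
        norm_num
      rcases hQn.eq_bot_or_eq_top with h | h
      · rw [h, Subgroup.card_bot] at hQ5; norm_num at hQ5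
      · rw [h, Subgroup.card_top, card_A6] at hQ5; norm_num at hQ5
    · norm_num at hs
    · norm_num at hs
  all_goals exfalso
  · rw [show L.index = 5 by omega] at hf; norm_num [Nat.factorial] at hf
  · rw [show L.index = 3 by omega] at hf; norm_num [Nat.factorial] at hf
  · rw [show L.index = 1 by omega] at hf; norm_num [Nat.factorial] at hf

theorem gen : fx t1 ⊔ fx t2 = ⊤ := by
  by_contra h
  obtain ⟨c1, c2, c12⟩ := nat_card
  have hne : fx t1 ≠ fx t2 := fun e => by rw [e, inf_idem, c2] at c12; omega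
  rcases overgroups _ (inf_le_left.trans le_sup_left) h with e | e | e
  · have := Subgroup.card_le_of_le (le_sup_left : fx t1 ≤ fx t1 ⊔ fx t2)
    rw [e, c1, c12] at this
    omega
  · exact hne (Subgroup.eq_of_le_of_card_ge (e ▸ le_sup_right) (by rw [c1, c2])).symm
  · exact hne (Subgroup.eq_of_le_of_card_ge (e ▸ le_sup_left) (by rw [c1, c2]))

end AS

variable {X : Type u} [Group X] [Finite X] {K : Subgroup X} [K.Normal] [Fact (Nat.Prime 2)]

/-- `A₆` as socle of a 2-minimal group. -/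
theorem alt_six_case (hX : Cfsg.IsPMinimal 2 X) (hs : IsSimpleGroup ↥K)
    (e : ↥K ≃* ↥(alternatingGroup (Fin 6))) :
    K ≠ ⊤ ∧ ∃ U : Sylow 2 ↥K, IsCoatom
      (Subgroup.normalizer (((U : Subgroup ↥K).map K.subtype : Subgroup X) : Set X)) := by
  obtain ⟨c1, c2, c12⟩ := AS.nat_card
  set M₁ : Subgroup ↥K := (AS.fx AS.t1).comap e.toMonoidHom with hM₁
  set M₂ : Subgroup ↥K := (AS.fx AS.t2).comap e.toMonoidHom with hM₂
  have hcard : ∀ H : Subgroup AS.A6, Nat.card ↥(H.comap e.toMonoidHom) = Nat.card H := fun H => by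
    rw [← Subgroup.card_map_of_injective (f := e.toMonoidHom) e.injective,
      Subgroup.map_comap_eq_self_of_surjective e.surjective]
  have hK : Nat.card ↥K = 360 := by rw [Nat.card_congr e.toEquiv, AS.card_A6]
  have hU0 : Nat.card ↥(M₁ ⊓ M₂) = 8 := by rw [hM₁, hM₂, ← Subgroup.comap_inf, hcard, c12]
  let U : Sylow 2 ↥K := Sylow.ofCard (M₁ ⊓ M₂) (by
    rw [hU0, hK, show (360 : ℕ) = 2 ^ 3 * 45 by norm_num,
      Nat.factorization_mul (by norm_num) (by norm_num), Finsupp.add_apply,
      Nat.factorization_eq_zero_of_not_dvd (show ¬ 2 ∣ 45 by norm_num),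
      Nat.prime_two.factorization_pow, Finsupp.single_eq_same]
    rfl)
  have hUe : (U : Subgroup ↥K) = M₁ ⊓ M₂ := rfl
  have hover : ∀ L : Subgroup ↥K, M₁ ⊓ M₂ ≤ L → L ≠ ⊤ → L = M₁ ⊓ M₂ ∨ L = M₁ ∨ L = M₂ := by
    intro L hle hL
    have hL' : L = (L.map e.toMonoidHom).comap e.toMonoidHom :=
      (Subgroup.comap_map_eq_self_of_injective e.injective L).symm
    rcases AS.overgroups (L.map e.toMonoidHom) (by
        refine le_trans ?_ (Subgroup.map_mono hle)
        rw [hM₁, hM₂, ← Subgroup.comap_inf, Subgroup.map_comap_eq_self_of_surjective e.surjective])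
      (fun h => hL (by rw [hL', h, Subgroup.comap_top])) with h | h | h <;> rw [hL', h]
    · exact Or.inl (Subgroup.comap_inf _ _ _)
    · exact Or.inr (Or.inl rfl)
    · exact Or.inr (Or.inr rfl)
  have htop : ∀ M : Subgroup ↥K, Nat.card M = 24 → M ≠ ⊤ := fun M h e' => by
    rw [e', Subgroup.card_top, hK] at h
    omega
  have hm1 : Nat.card M₁ = 24 := by rw [hM₁, hcard, c1]
  have hm2 : Nat.card M₂ = 24 := by rw [hM₂, hcard, c2]
  have hne12 : M₁ ≠ M₂ := fun h => by rw [h, inf_idem, hm2] at hU0; omega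
  have hgen : M₁ ⊔ M₂ = ⊤ := by
    refine Subgroup.map_injective (f := e.toMonoidHom) e.injective ?_
    rw [Subgroup.map_sup, hM₁, hM₂, Subgroup.map_comap_eq_self_of_surjective e.surjective,
      Subgroup.map_comap_eq_self_of_surjective e.surjective, AS.gen,
      Subgroup.map_top_of_surjective _ e.surjective]
  have hb : (U : Subgroup ↥K) ≠ ⊥ := fun h => by
    rw [← hUe, h, Subgroup.card_bot] at hU0; omega
  have ht : (U : Subgroup ↥K) ≠ ⊤ := fun h => by
    rw [← hUe, h, Subgroup.card_top, hK] at hU0; omega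
  -- a subgroup fixed by the normaliser of `U` is not one of the two
  have hfix : ∀ g : X, (∀ x ∈ (U : Subgroup ↥K), MulAut.conjNormal g x ∈ (U : Subgroup ↥K)) →
      ∀ M ∈ ({M₁, M₂} : Set (Subgroup ↥K)),
      M.map (MulAut.conjNormal g : ↥K ≃* ↥K).toMonoidHom ∈ ({M₁, M₂} : Set (Subgroup ↥K)) := by
    intro g hg M hM
    have hcM : Nat.card M = 24 := by rcases hM with rfl | rfl <;> assumption
    have hc' : Nat.card ↥(M.map (MulAut.conjNormal g : ↥K ≃* ↥K).toMonoidHom) = 24 := by
      exact (Subgroup.card_map_of_injective (MulAut.conjNormal g : ↥K ≃* ↥K).injective).trans hcM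
    have hle : M₁ ⊓ M₂ ≤ M.map (MulAut.conjNormal g : ↥K ≃* ↥K).toMonoidHom := by
      have hmap : (U : Subgroup ↥K).map (MulAut.conjNormal g : ↥K ≃* ↥K).toMonoidHom = U :=
        Subgroup.eq_of_le_of_card_ge (by rintro _ ⟨x, hx, rfl⟩; exact hg x hx)
          (Subgroup.card_map_of_injective (MulAut.conjNormal g : ↥K ≃* ↥K).injective).ge
      rw [← hUe, ← hmap]
      refine Subgroup.map_mono ?_
      rw [hUe]
      rcases hM with rfl | rfl
      exacts [inf_le_left, inf_le_right]
    rcases hover _ hle (htop _ hc') with h | h | h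
    · rw [h, hU0] at hc'; omega
    · exact Or.inl h
    · exact Or.inr h
  have finish : (∀ g : X, (∀ x ∈ (U : Subgroup ↥K), MulAut.conjNormal g x ∈ (U : Subgroup ↥K)) →
      M₁.map (MulAut.conjNormal g : ↥K ≃* ↥K).toMonoidHom = M₁) → False := by
    intro h1
    refine false_of_two hX hs U hb ht M₁ M₂ (htop _ hm1) (htop _ hm2) inf_le_left inf_le_right
      (fun g hg => ⟨(h1 g hg).le, ?_⟩) hgen
    rcases hfix g hg M₂ (Or.inr rfl) with h | h
    · exact absurd (Subgroup.map_injective (f := (MulAut.conjNormal g : ↥K ≃* ↥K).toMonoidHom)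
        (MulAut.conjNormal g : ↥K ≃* ↥K).injective (h.trans (h1 g hg).symm)) hne12.symm
    · exact h.le
  refine ⟨fun hKtop => finish fun g hg => ?_, U, normalizer_ne_top hs U hb ht, fun H hH => ?_⟩
  · have hgK : g ∈ K := hKtop ▸ Subgroup.mem_top g
    have hgU : (⟨g, hgK⟩ : ↥K) ∈ M₁ ⊓ M₂ := by
      have := AS.self_norm (e ⟨g, hgK⟩) fun u hu1 hu2 => by
        have hx : e.symm u ∈ M₁ ⊓ M₂ := by
          constructor <;> · show e (e.symm u) ∈ AS.fx _
                            rw [e.apply_symm_apply]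
                            apply AS.mem_fx.2
                            assumption
        have hconj := hg _ (hUe ▸ hx)
        rw [hUe, show MulAut.conjNormal g (e.symm u) = ⟨g, hgK⟩ * e.symm u * (⟨g, hgK⟩ : ↥K)⁻¹ from
          Subtype.ext (by simp [MulAut.conjNormal_apply])] at hconj
        have key : e (⟨g, hgK⟩ * e.symm u * (⟨g, hgK⟩ : ↥K)⁻¹) =
            e ⟨g, hgK⟩ * u * (e ⟨g, hgK⟩)⁻¹ := by
          rw [map_mul, map_mul, map_inv, e.apply_symm_apply]
        exact ⟨AS.mem_fx.1 (key ▸ (hconj.1 : e _ ∈ AS.fx AS.t1)),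
          AS.mem_fx.1 (key ▸ (hconj.2 : e _ ∈ AS.fx AS.t2))⟩
      exact ⟨AS.mem_fx.2 this.1, AS.mem_fx.2 this.2⟩
    refine Subgroup.eq_of_le_of_card_ge ?_
      (Subgroup.card_map_of_injective (MulAut.conjNormal g : ↥K ≃* ↥K).injective).ge
    rintro _ ⟨x, hx, rfl⟩
    show MulAut.conjNormal g x ∈ M₁
    rw [show MulAut.conjNormal g x = ⟨g, hgK⟩ * x * (⟨g, hgK⟩ : ↥K)⁻¹ from
      Subtype.ext (by simp [MulAut.conjNormal_apply])]
    exact mul_mem (mul_mem hgU.1 hx) (inv_mem hgU.1)
  · set N := Subgroup.normalizer (((U : Subgroup ↥K).map K.subtype : Subgroup X) : Set X) with hN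
    have hfr : N ⊔ K = ⊤ := Sylow.normalizer_sup_eq_top U
    have hUN : ∀ g : X, (∀ x ∈ (U : Subgroup ↥K), MulAut.conjNormal g x ∈ (U : Subgroup ↥K)) →
        g ∈ N := by
      intro g hg
      refine Subgroup.mem_normalizer_fintype ?_
      rintro _ ⟨y, hy, rfl⟩
      exact ⟨_, hg y hy, by simp⟩
    by_contra hHt
    have hle : M₁ ⊓ M₂ ≤ H.comap K.subtype := fun x hx => hH.le (hUN (x : X) fun y hy => by
      rw [show MulAut.conjNormal (x : X) y = x * y * x⁻¹ from
        Subtype.ext (by simp [MulAut.conjNormal_apply])]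
      exact mul_mem (mul_mem hx hy) (inv_mem hx))
    have hlt : H.comap K.subtype ≠ ⊤ := fun e' => hHt (top_le_iff.1 (hfr ▸ sup_le hH.le fun x hx =>
      (e' ▸ Subgroup.mem_top _ : (⟨x, hx⟩ : ↥K) ∈ H.comap K.subtype)))
    have hinv : ∀ g ∈ H, (H.comap K.subtype).map (MulAut.conjNormal g : ↥K ≃* ↥K).toMonoidHom =
        H.comap K.subtype := by
      intro g hg
      refine Subgroup.eq_of_le_of_card_ge ?_
        (Subgroup.card_map_of_injective (MulAut.conjNormal g : ↥K ≃* ↥K).injective).ge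
      rintro _ ⟨x, hx, rfl⟩
      show ((MulAut.conjNormal g x : ↥K) : X) ∈ H
      rw [MulAut.conjNormal_apply]
      exact mul_mem (mul_mem hg hx) (inv_mem hg)
    rcases hover _ hle hlt with h | h | h
    · refine not_le_of_gt hH fun g hg => hUN g fun x hx => ?_
      have := hinv g hg
      rw [h, ← hUe] at this
      rw [← this]
      exact ⟨x, hx, rfl⟩
    all_goals
      refine finish fun g hg => ?_
      have hgH : g ∈ H := hH.le (hUN g hg)
      have := hinv g hgH
      rw [h] at this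
    · exact this
    · rcases hfix g hg M₁ (Or.inl rfl) with h' | h'
      · exact h'
      · exact absurd (Subgroup.map_injective (f := (MulAut.conjNormal g : ↥K ≃* ↥K).toMonoidHom)
          (MulAut.conjNormal g : ↥K ≃* ↥K).injective (h'.trans this.symm)) hne12

end Cfsg.Agent.H88.PMin
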