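import Cfsg.Agent.H88.PMin.Walk

/-!
Automorphisms normalising the Borel subgroup permute the fundamental elements, respecting
commutation and the sizes of the root groups.
-/

set_option autoImplicit false
set_option linter.unusedSectionVars false

namespace Cfsg.Agent.H88.PMin

open Cfsg.Agent.H28 Cfsg.Agent.H54.BNC
open Cfsg.Agent.H37 (Tits.Ambient)
open Cfsg.Agent.H13.Split Cfsg.Agent.H83.DefChar

variable {G W : Type*} [Group G] [Group W] (A : Tits.Ambient G W)

/-- The standard parabolic subgroup of a set of fundamental elements. -/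
def par (L : Set W) : Subgroup G := A.pair.parabolic (A.n '' L)

variable {A}

theorem B_le_par (L : Set W) : A.B ≤ par A L := le_sup_left

theorem n_mem_par {L : Set W} {s : W} (h : s ∈ L) : A.n s ∈ par A L :=
  Subgroup.mem_sup_right (Subgroup.subset_closure ⟨s, h, rfl⟩)

theorem par_mono {L L' : Set W} (h : L ⊆ L') : par A L ≤ par A L' :=
  sup_le_sup_left (Subgroup.closure_mono (Set.image_mono h)) _

theorem exists_eq_par {M : Subgroup G} (hM : A.B ≤ M) : ∃ L ⊆ A.S, M = par A L := by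
  refine ⟨{s ∈ A.S | A.n s ∈ M}, fun s hs => hs.1, ?_⟩
  have h := Cfsg.Agent.H27.BN.eq_parabolic_of_le A.pair M hM
  refine h.trans ?_
  unfold par
  congr 1
  ext x
  constructor
  · rintro ⟨⟨s, hs, rfl⟩, hx⟩
    exact ⟨s, ⟨hs, hx⟩, rfl⟩
  · rintro ⟨s, ⟨hs, hx⟩, rfl⟩
    exact ⟨⟨s, hs, rfl⟩, hx⟩

theorem par_empty : par A (∅ : Set W) = A.B := by
  unfold par Cfsg.BNPair.parabolic
  rw [Set.image_empty, Subgroup.closure_empty, sup_bot_eq]
  rfl

section

variable {p : ℕ} (hA : Hyp A p) [hp : Fact p.Prime] [Finite G] [Finite W]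
include hA

theorem subset_of_par_le {L L' : Set W} (hL : L ⊆ A.S) (hL' : L' ⊆ A.S) (h : par A L ≤ par A L') :
    L ⊆ L' :=
  fun _ hs => mem_J_of_n_mem hA hL' (hL hs) (h (n_mem_par hs))

theorem par_inj {L L' : Set W} (hL : L ⊆ A.S) (hL' : L' ⊆ A.S) (h : par A L = par A L') : L = L' :=
  Set.Subset.antisymm (subset_of_par_le hA hL hL' h.le) (subset_of_par_le hA hL' hL h.ge)

theorem par_all : par A A.S = ⊤ := by
  refine eq_top_iff.2 fun g _ => ?_
  obtain ⟨u, hu, h, hh, w, v, hv, rfl⟩ := A.exists_eq g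
  have hw : A.n w ∈ par A A.S :=
    hA.n_mem_parabolic (by rw [A.closure_S]; exact Subgroup.mem_top w)
  exact mul_mem (mul_mem (mul_mem (B_le_par _ (A.U_le_B hu)) (B_le_par _ (A.H_le_B hh))) hw)
    (B_le_par _ (A.U_le_B (A.Uw_le w hv)))

/-- The parabolic subgroup of one element has two cells. -/
theorem cell_of_mem_par {s : W} (hs : s ∈ A.S) {g : G} (hg : g ∈ par A {s}) :
    g ∈ cell A 1 ∨ g ∈ cell A s := by
  obtain ⟨w, hw⟩ := exists_cell A g
  obtain ⟨u, hu, h, hh, v, hv, e⟩ := cell_nf A hw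
  have hn : A.n w ∈ par A {s} := by
    have h1 : A.n w = (u * h)⁻¹ * g * v⁻¹ := by rw [e]; group
    rw [h1]
    exact mul_mem (mul_mem (inv_mem (B_le_par _ (mul_mem (A.U_le_B hu) (A.H_le_B hh)))) hg)
      (inv_mem (B_le_par _ (A.U_le_B (A.Uw_le w hv))))
  rcases eq_or_ne w 1 with rfl | hw1
  · exact Or.inl hw
  refine Or.inr ?_
  have hdesc : ∀ {y : W}, y ≠ 1 → A.n y ∈ par A {s} → ell A (s * y) + 1 = ell A y := by
    intro y hy hny
    obtain ⟨r, hr, hre⟩ := exists_left_descent A hy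
    have hrm : A.n r ∈ par A {s} := descent_mem hA (B_le_par _) hny hr hre
    rwa [mem_J_of_n_mem hA (by simpa using hs) hr hrm] at hre
  rcases eq_or_ne (s * w) 1 with h1 | h1
  · rwa [show w = s by rw [← A.S_inv hs]; exact eq_inv_of_mul_eq_one_right h1] at hw
  exfalso
  have h2 : A.n (s * w) ∈ par A {s} := by
    obtain ⟨k, hk, ek⟩ := A.n_mul s w
    rw [show A.n (s * w) = k⁻¹ * (A.n s * A.n w) by rw [ek]; group]
    exact mul_mem (B_le_par _ (inv_mem (A.H_le_B hk))) (mul_mem (n_mem_par rfl) hn)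
  have h3 := hdesc h1 h2
  have h4 := hdesc hw1 hn
  rw [← mul_assoc, A.sq_S s hs, one_mul] at h3
  omega

theorem mem_B_of_cell_one {g : G} (hg : g ∈ cell A 1) : g ∈ A.B := by
  obtain ⟨u, hu, h, hh, v, hv, rfl⟩ := cell_nf A hg
  rw [A.n_one, mul_one]
  exact mul_mem (mul_mem (A.U_le_B hu) (A.H_le_B hh)) (A.U_le_B (A.Uw_le 1 hv))

theorem mem_par_of_cell {s : W} {g : G} (hg : g ∈ cell A s) : g ∈ par A {s} := by
  obtain ⟨u, hu, h, hh, v, hv, rfl⟩ := cell_nf A hg
  exact mul_mem (mul_mem (mul_mem (B_le_par _ (A.U_le_B hu)) (B_le_par _ (A.H_le_B hh)))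
    (n_mem_par rfl)) (B_le_par _ (A.U_le_B (A.Uw_le s hv)))

/-- The parabolics of two fundamental elements commute as sets exactly when the elements commute. -/
theorem comm_iff {s t : W} (hs : s ∈ A.S) (ht : t ∈ A.S) :
    s * t = t * s ↔
      ∀ x ∈ par A {s}, ∀ y ∈ par A {t}, ∃ y' ∈ par A {t}, ∃ x' ∈ par A {s}, x * y = y' * x' := by
  rcases eq_or_ne s t with rfl | hne
  · exact iff_of_true rfl fun x hx y hy => ⟨x, hx, y, hy, rfl⟩
  have hlen : ∀ {a b : W}, a ∈ A.S → b ∈ A.S → a ≠ b → ell A (a * b) = ell A a + ell A b := by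
    intro a b ha hb hab
    rw [ell_S A ha, ell_S A hb]
    rcases ell_cases' A hb a with h | h <;> rw [ell_S A ha] at h
    · exact h
    · exact absurd (mul_eq_one_iff_eq_inv.1 (eq_one_of_ell A (w := a * b) (by omega)))
        (by rw [A.S_inv hb]; exact hab)
  constructor
  · intro hc x hx y hy
    rcases cell_of_mem_par hA hs hx with hx1 | hxs
    · exact ⟨x * y, mul_mem (B_le_par _ (mem_B_of_cell_one hA hx1)) hy, 1, one_mem _,
        (mul_one _).symm⟩
    rcases cell_of_mem_par hA ht hy with hy1 | hyt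
    · exact ⟨1, one_mem _, x * y, mul_mem hx (B_le_par _ (mem_B_of_cell_one hA hy1)),
        (one_mul _).symm⟩
    have hm := cell_mul A (hlen hs ht hne) hxs hyt
    rw [hc] at hm
    obtain ⟨u, hu, h, hh, v, hv, e⟩ := cell_nf A hm
    obtain ⟨k, hk, ek⟩ := A.n_mul t s
    refine ⟨u * h * k⁻¹ * A.n t, ?_, A.n s * v, ?_, ?_⟩
    · exact mul_mem (mul_mem (mul_mem (B_le_par _ (A.U_le_B hu)) (B_le_par _ (A.H_le_B hh)))
        (inv_mem (B_le_par _ (A.H_le_B hk)))) (n_mem_par rfl)
    · exact mul_mem (n_mem_par rfl) (B_le_par _ (A.U_le_B (A.Uw_le _ hv)))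
    · rw [e, show A.n (t * s) = k⁻¹ * (A.n t * A.n s) by rw [ek]; group]
      group
  · intro h
    have hm := cell_mul A (hlen hs ht hne) (n_mem_cell A s) (n_mem_cell A t)
    obtain ⟨y, hy, x, hx, e⟩ := h _ (n_mem_par rfl) _ (n_mem_par rfl)
    rw [e] at hm
    have hs1 : s ≠ 1 := S_ne_one A hs
    have ht1 : t ≠ 1 := S_ne_one A ht
    rcases cell_of_mem_par hA ht hy with hy1 | hyt
    · rcases cell_of_mem_par hA hs hx with hx1 | hxs
      · have h2 := cell_inj A hm (cell_left A (mem_B_of_cell_one hA hy1) hx1)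
        exact absurd (by rw [mul_eq_one_iff_eq_inv, A.S_inv ht] at h2; exact h2) hne
      · have h2 := cell_inj A hm (cell_left A (mem_B_of_cell_one hA hy1) hxs)
        exact absurd (mul_eq_left.1 h2) ht1
    · rcases cell_of_mem_par hA hs hx with hx1 | hxs
      · have h2 := cell_inj A hm (cell_right A hyt (mem_B_of_cell_one hA hx1))
        exact absurd (mul_eq_right.1 h2) hs1
      · exact cell_inj A hm (cell_mul A (hlen ht hs hne.symm) hyt hxs)

variable {α : G ≃* G} (hα : A.B.map α.toMonoidHom = A.B)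
include hα

omit hA hp in
theorem map_B_symm : A.B.map α.symm.toMonoidHom = A.B := by
  conv_lhs => rw [← hα]
  rw [Subgroup.map_map]
  convert Subgroup.map_id A.B
  ext x
  simp

/-- An automorphism normalising `B` maps a minimal parabolic to one. -/
theorem exists_image {s : W} (hs : s ∈ A.S) :
    ∃ t ∈ A.S, (par A {s}).map α.toMonoidHom = par A {t} := by
  have hB : A.B ≤ (par A {s}).map α.toMonoidHom := hα.ge.trans (Subgroup.map_mono (B_le_par _))
  obtain ⟨L, hL, eL⟩ := exists_eq_par hB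
  rcases L.eq_empty_or_nonempty with h | ⟨t, ht⟩
  · exfalso
    rw [h, par_empty, ← hα] at eL
    have h1 := Subgroup.map_injective (f := α.toMonoidHom) α.injective eL
    rw [← par_empty] at h1
    have := par_inj hA (by simpa using hs) (Set.empty_subset _) h1
    exact Set.singleton_ne_empty s this
  refine ⟨t, hL ht, ?_⟩
  have h1 : A.B ≤ (par A {t}).map α.symm.toMonoidHom :=
    (map_B_symm hα).ge.trans (Subgroup.map_mono (B_le_par _))
  obtain ⟨L', hL', eL'⟩ := exists_eq_par h1
  have h2 : par A L' ≤ par A {s} := by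
    rw [← eL', Subgroup.map_le_iff_le_comap]
    intro x hx
    have hxL : x ∈ par A L := par_mono (Set.singleton_subset_iff.2 ht) hx
    rw [← eL] at hxL
    obtain ⟨y, hy, rfl⟩ := hxL
    simpa using hy
  have h3 := subset_of_par_le hA hL' (by simpa using hs) h2
  rcases L'.eq_empty_or_nonempty with h | ⟨r, hr⟩
  · exfalso
    rw [h, par_empty, ← map_B_symm hα] at eL'
    have h4 := Subgroup.map_injective (f := α.symm.toMonoidHom) α.symm.injective eL'
    rw [← par_empty] at h4
    exact Set.singleton_ne_empty t (par_inj hA (by simpa using hL ht) (Set.empty_subset _) h4)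
  · have h5 : L' = {s} := Set.Subset.antisymm h3 (by
      rw [Set.singleton_subset_iff]; rwa [← Set.mem_singleton_iff.1 (h3 hr)])
    rw [h5] at eL'
    rw [← eL', Subgroup.map_map]
    convert Subgroup.map_id (par A {t})
    ext x
    simp

theorem map_comm {s t s' t' : W} (hs : s ∈ A.S) (ht : t ∈ A.S) (hs' : s' ∈ A.S) (ht' : t' ∈ A.S)
    (es : (par A {s}).map α.toMonoidHom = par A {s'})
    (et : (par A {t}).map α.toMonoidHom = par A {t'}) (hc : s * t = t * s) : s' * t' = t' * s' := by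
  rw [comm_iff hA hs' ht', ← es, ← et]
  rintro _ ⟨x, hx, rfl⟩ _ ⟨y, hy, rfl⟩
  obtain ⟨y', hy', x', hx', e⟩ := (comm_iff hA hs ht).1 hc x hx y hy
  exact ⟨_, Subgroup.mem_map_of_mem _ hy', _, Subgroup.mem_map_of_mem _ hx',
    by rw [← map_mul, ← map_mul, e]⟩

theorem map_card_le {s t : W} (hs : s ∈ A.S) (ht : t ∈ A.S)
    (e : (par A {s}).map α.toMonoidHom = par A {t}) :
    Nat.card (A.Uw s) ≤ Nat.card (A.Uw t) := by
  have hmem : ∀ g ∈ cell A s, α g ∈ cell A t := by
    intro g hg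
    have h1 : α g ∈ par A {t} := e ▸ Subgroup.mem_map_of_mem α.toMonoidHom (mem_par_of_cell hA hg)
    refine (cell_of_mem_par hA ht h1).resolve_left fun h => S_ne_one A hs ?_
    have h2 : g ∈ A.B := by
      have := mem_B_of_cell_one hA h
      rw [← hα] at this
      obtain ⟨y, hy, ey⟩ := this
      rwa [← α.injective ey]
    obtain ⟨u, hu, k, hk, rfl⟩ := h2
    have h3 := nf_mem_cell A (w := (1 : W)) (v := 1) hu hk (one_mem _)
    rw [A.n_one, mul_one, mul_one] at h3
    exact cell_inj A hg h3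
  let f : ↥(cell A s) → ↥(cell A t) := fun g => ⟨α g.1, hmem g.1 g.2⟩
  have hf : Function.Injective f := fun a b h => Subtype.ext (α.injective (congrArg Subtype.val h))
  have h := Nat.card_le_card_of_injective f hf
  rw [card_cell, card_cell] at h
  exact Nat.le_of_mul_le_mul_left h (Nat.mul_pos Nat.card_pos Nat.card_pos)

theorem map_card {s t : W} (hs : s ∈ A.S) (ht : t ∈ A.S)
    (e : (par A {s}).map α.toMonoidHom = par A {t}) :
    Nat.card (A.Uw s) = Nat.card (A.Uw t) := by
  refine le_antisymm (map_card_le hA hα hs ht e) (map_card_le hA (map_B_symm hα) ht hs ?_)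
  rw [← e, Subgroup.map_map]
  convert Subgroup.map_id (par A {s})
  ext x
  simp

end

end Cfsg.Agent.H88.PMin
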