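import Cfsg.Agent.H88.PMin.Abstract
import Cfsg.Agent.H88.PMin.Perm
import Cfsg.Agent.H83.DefChar.SplitAll
import Cfsg.Agent.H40.Tits.Main

/-!
The Tits group is not the simple socle of a 2-minimal group: in `²F₄(2)` the traces of the two
parabolic subgroups on the derived group are the only subgroups of their orders over the Sylow
subgroup.
-/

set_option autoImplicit false
set_option linter.unusedSectionVars false
set_option linter.style.haveILetI false
set_option maxRecDepth 100000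

namespace Cfsg.Agent.H88.PMin

open Cfsg.Agent.H28 Cfsg.Agent.H54.BNC
open Cfsg.Agent.H37 (Tits.Ambient)
open Cfsg.Agent.H13.Split Cfsg.Agent.H83.DefChar

/-! ### A split system with trivial torus and a subgroup of index two -/

section IndexTwo

variable {G W : Type*} [Group G] [Group W] [Finite G] [Finite W] {A : Tits.Ambient G W}

theorem two_card_inf {P T : Subgroup G} (hT : T.index = 2) (hP : ¬ P ≤ T) :
    2 * Nat.card ↥(P ⊓ T) = Nat.card P := by
  haveI : T.Normal := Subgroup.normal_of_index_eq_two hT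
  have hd : T.relIndex P ∣ 2 := hT ▸ Subgroup.relIndex_dvd_index_of_normal T P
  have h1 : T.relIndex P = 2 := by
    rcases (Nat.dvd_prime Nat.prime_two).1 hd with h | h
    · exact absurd (Subgroup.relIndex_eq_one.1 h) hP
    · exact h
  have h := (T.subgroupOf P).card_mul_index
  rw [← Subgroup.inf_subgroupOf_left,
    Nat.card_congr (Subgroup.subgroupOfEquivOfLe inf_le_left).toEquiv,
    show ((P ⊓ T).subgroupOf P).index = 2 by rw [Subgroup.inf_subgroupOf_left]; exact h1] at h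
  omega

theorem card_inter_cell (hH : A.H = ⊥) {T : Subgroup G} (hT : T.index = 2) {M : Subgroup G}
    (hU : A.U ⊓ T ≤ M) {m : G} (hm : m ∈ M) {w : W} (hw : m ∈ cell A w) :
    Nat.card ↥(A.U ⊓ T) * Nat.card (A.Uw w) ≤ 2 * Nat.card {x : ↥M // (x : G) ∈ cell A w} := by
  haveI : T.Normal := Subgroup.normal_of_index_eq_two hT
  obtain ⟨a, ha, h, hh, v, hv, rfl⟩ := cell_nf A hw
  rw [hH, Subgroup.mem_bot] at hh
  subst hh
  have hconj : ∀ x ∈ A.Uw w ⊓ T, v⁻¹ * x * v ∈ A.U ⊓ T := fun x hx =>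
    ⟨A.U.mul_mem (A.U.mul_mem (A.U.inv_mem (A.Uw_le w hv)) (A.Uw_le w hx.1)) (A.Uw_le w hv), by
      simpa using (inferInstance : T.Normal).conj_mem x hx.2 v⁻¹⟩
  let f : ↥(A.U ⊓ T) × ↥(A.Uw w ⊓ T) → {x : ↥M // (x : G) ∈ cell A w} := fun q =>
    ⟨⟨(q.1 : G) * (a * 1 * A.n w * v) * (v⁻¹ * q.2 * v),
      mul_mem (mul_mem (hU q.1.2) hm) (hU (hconj _ q.2.2))⟩, by
      have h1 := nf_mem_cell A (w := w) (mul_mem q.1.2.1 ha) (one_mem A.H) (A.Uw_le w (mul_mem q.2.2.1 hv))
      convert h1 using 1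
      group⟩
  have hf : Function.Injective f := by
    rintro ⟨u, x⟩ ⟨u', x'⟩ e
    have e' : (u : G) * (a * 1 * A.n w * v) * (v⁻¹ * x * v) =
        (u' : G) * (a * 1 * A.n w * v) * (v⁻¹ * x' * v) := congrArg (fun z => ((z.1 : ↥M) : G)) e
    have e2 : (u : G) * a * 1 * A.n w * (x * v) = (u' : G) * a * 1 * A.n w * (x' * v) := by
      calc (u : G) * a * 1 * A.n w * (x * v)
          = (u : G) * (a * 1 * A.n w * v) * (v⁻¹ * x * v) := by group
        _ = (u' : G) * (a * 1 * A.n w * v) * (v⁻¹ * x' * v) := e'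
        _ = _ := by group
    obtain ⟨-, h1, -, h2⟩ := A.unique (mul_mem u.2.1 ha) (mul_mem u'.2.1 ha) (one_mem _) (one_mem _)
      (mul_mem x.2.1 hv) (mul_mem x'.2.1 hv) e2
    rw [Prod.ext_iff]
    exact ⟨Subtype.ext (mul_right_cancel h1), Subtype.ext (mul_right_cancel h2)⟩
  have h1 := Nat.card_le_card_of_injective f hf
  rw [Nat.card_prod] at h1
  have h2 : Nat.card (A.Uw w) ≤ 2 * Nat.card ↥(A.Uw w ⊓ T) := by
    by_cases hle : A.Uw w ≤ T
    · rw [inf_eq_left.2 hle]; omega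
    · rw [two_card_inf hT hle]
  calc Nat.card ↥(A.U ⊓ T) * Nat.card (A.Uw w)
      ≤ Nat.card ↥(A.U ⊓ T) * (2 * Nat.card ↥(A.Uw w ⊓ T)) := Nat.mul_le_mul_left _ h2
    _ = 2 * (Nat.card ↥(A.U ⊓ T) * Nat.card ↥(A.Uw w ⊓ T)) := by ring
    _ ≤ _ := Nat.mul_le_mul_left _ h1

theorem mem_inf_of_cell_one (hH : A.H = ⊥) {T : Subgroup G} {m : G} (hmT : m ∈ T)
    (hm : m ∈ cell A 1) : m ∈ A.U ⊓ T := by
  refine ⟨?_, hmT⟩
  obtain ⟨u, hu, h, hh, v, hv, rfl⟩ := cell_nf A hm
  rw [hH, Subgroup.mem_bot] at hh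
  rw [hh, A.n_one, mul_one, mul_one]
  exact mul_mem hu (A.Uw_le 1 hv)

/-- Small overgroups lie in the two parabolics. -/
theorem small_overgroup (hH : A.H = ⊥) {T : Subgroup G} (hT : T.index = 2) {a b : W}
    (hUw : ∀ w, w = 1 ∨ w = a ∨ w = b ∨ 16 ≤ Nat.card (A.Uw w) ∨
      (8 ≤ Nat.card (A.Uw w) ∧ w⁻¹ ≠ w ∧ 8 ≤ Nat.card (A.Uw w⁻¹)))
    {M : Subgroup G} (hMT : M ≤ T) (hU : A.U ⊓ T ≤ M)
    (hr : Nat.card M ≤ 5 * Nat.card ↥(A.U ⊓ T)) :
    ∀ m ∈ M, m ∈ cell A 1 ∨ m ∈ cell A a ∨ m ∈ cell A b := by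
  classical
  intro m hm
  obtain ⟨w, hw⟩ := exists_cell A m
  rcases hUw w with rfl | rfl | rfl | h16 | ⟨h8, hne, h8'⟩
  · exact Or.inl hw
  · exact Or.inr (Or.inl hw)
  · exact Or.inr (Or.inr hw)
  all_goals exfalso
  all_goals
    have hw1 : w ≠ 1 := fun h => by
      subst h
      rw [A.Uw_one, Subgroup.card_bot] at *
      omega
    have hone : ∀ u : ↥(A.U ⊓ T), (u : G) ∈ cell A 1 := fun u => by
      have h3 := nf_mem_cell A (w := (1 : W)) (v := 1) u.2.1 (one_mem A.H) (one_mem _)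
      simpa [A.n_one] using h3
    have hpos : 0 < Nat.card ↥(A.U ⊓ T) := Nat.card_pos
    have h1 := card_inter_cell hH hT hU hm hw
  · let f : ↥(A.U ⊓ T) ⊕ {x : ↥M // (x : G) ∈ cell A w} → ↥M :=
      Sum.elim (fun u => ⟨u, hU u.2⟩) Subtype.val
    have hf : Function.Injective f := by
      refine Function.Injective.sumElim
        (fun x y e => Subtype.ext (Subtype.mk_eq_mk.1 e :))
        Subtype.val_injective fun u x e => hw1 ?_
      have h2 : (u : G) ∈ cell A w := by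
        have := x.2
        rwa [← e] at this
      exact cell_inj A h2 (hone u)
    have h2 := Nat.card_le_card_of_injective f hf
    rw [Nat.card_sum] at h2
    have h4 := Nat.mul_le_mul_left (Nat.card ↥(A.U ⊓ T)) h16
    omega
  · have hw' : m⁻¹ ∈ cell A w⁻¹ := cell_inv A hw
    have h1' := card_inter_cell hH hT hU (inv_mem hm) hw'
    let f : (↥(A.U ⊓ T) ⊕ {x : ↥M // (x : G) ∈ cell A w}) ⊕
        {x : ↥M // (x : G) ∈ cell A w⁻¹} → ↥M :=
      Sum.elim (Sum.elim (fun u => ⟨u, hU u.2⟩) Subtype.val) Subtype.val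
    have hf : Function.Injective f := by
      refine Function.Injective.sumElim (Function.Injective.sumElim
        (fun x y e => Subtype.ext (Subtype.mk_eq_mk.1 e :))
        Subtype.val_injective fun u x e => hw1 ?_) Subtype.val_injective ?_
      · have h2 : (u : G) ∈ cell A w := by
          have := x.2
          rwa [← e] at this
        exact cell_inj A h2 (hone u)
      · rintro (u | x) y e
        · have h2 : (u : G) ∈ cell A w⁻¹ := by
            have := y.2
            rwa [← e] at this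
          exact hw1 (inv_eq_one.1 (cell_inj A h2 (hone u)))
        · have h2 : ((x.1 : ↥M) : G) ∈ cell A w⁻¹ := by
            have := y.2
            rwa [← e] at this
          exact hne (cell_inj A h2 x.2)
    have h2 := Nat.card_le_card_of_injective f hf
    rw [Nat.card_sum, Nat.card_sum] at h2
    have h4 := Nat.mul_le_mul_left (Nat.card ↥(A.U ⊓ T)) h8
    have h5 := Nat.mul_le_mul_left (Nat.card ↥(A.U ⊓ T)) h8'
    omega

theorem card_par (hA : Hyp A 2) (hH : A.H = ⊥) {s : W} (hs : s ∈ A.S) :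
    Nat.card ↥(par A {s}) = Nat.card A.U * (1 + Nat.card (A.Uw s)) := by
  classical
  haveI := Fact.mk Nat.prime_two
  have h1 : Nat.card {g : ↥(par A {s}) // (g : G) ∈ cell A 1} = Nat.card A.U := by
    refine Nat.card_congr
      { toFun := fun g => ⟨g.1, ?_⟩
        invFun := fun u => ⟨⟨u, B_le_par _ (A.U_le_B u.2)⟩, ?_⟩
        left_inv := fun _ => rfl
        right_inv := fun _ => rfl }
    · exact (mem_inf_of_cell_one hH (Subgroup.mem_top _) g.2).1
    · have h3 := nf_mem_cell A (w := (1 : W)) (v := 1) u.2 (one_mem A.H) (one_mem _)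
      simpa [A.n_one] using h3
  have h2 : Nat.card {g : ↥(par A {s}) // ¬ (g : G) ∈ cell A 1} =
      Nat.card A.U * Nat.card (A.Uw s) := by
    have hc := card_cell A s
    rw [hH, Subgroup.card_bot, mul_one] at hc
    rw [← hc]
    refine Nat.card_congr
      { toFun := fun g => ⟨g.1, (cell_of_mem_par hA hs g.1.2).resolve_left g.2⟩
        invFun := fun g => ⟨⟨g, mem_par_of_cell hA g.2⟩,
          fun h => S_ne_one A hs (cell_inj A g.2 h)⟩
        left_inv := fun _ => rfl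
        right_inv := fun _ => rfl }
  rw [mul_add, mul_one, ← h2, ← h1, ← Nat.card_sum]
  exact (Nat.card_congr (Equiv.sumCompl _)).symm

end IndexTwo

/-! ### The Tits group -/

namespace TG

theorem of_eq {Γ : Type*} [Group Γ] {S T : Subgroup Γ} (h : S = T) {n : ℕ}
    (h1 : (commutator ↥T).index = 2) (h4 : Nat.card ↥(commutator ↥T) = n) :
    (commutator ↥S).index = 2 ∧ Nat.card ↥(commutator ↥S) = n ∧
      Nonempty (↥(commutator ↥S) ≃* ↥(commutator ↥T)) := by
  subst h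
  exact ⟨h1, h4, ⟨MulEquiv.refl _⟩⟩

open Cfsg.Lie Cfsg.Agent.H37 Cfsg.Agent.H40.Tits

theorem len_facts : ∀ w : DihedralGroup 8, w = 1 ∨ w = H37.Twist.F4.gens 0 ∨
    w = H37.Twist.F4.gens 1 ∨ 4 ≤ H37.Twist.F4.halfLen w ∨
    (3 ≤ H37.Twist.F4.halfLen w ∧ w⁻¹ ≠ w ∧ 3 ≤ H37.Twist.F4.halfLen w⁻¹) := by
  decide +kernel

theorem len_gens :
    (H37.Twist.F4.halfLen (H37.Twist.F4.gens 0) = 1 ∧ H37.Twist.F4.halfLen (H37.Twist.F4.gens 1) = 2) ∨
    (H37.Twist.F4.halfLen (H37.Twist.F4.gens 0) = 2 ∧ H37.Twist.F4.halfLen (H37.Twist.F4.gens 1) = 1) := by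
  decide +kernel

theorem om_lt : ∀ a : DihedralGroup 8, ∀ i ∈ H37.Twist.F4.om a, i < 4 := by decide +kernel

theorem card_Uw (w : DihedralGroup 8) :
    Nat.card (Md.tw.Uw w) = 2 ^ H37.Twist.F4.halfLen w := by
  refine Nat.pow_left_injective (show (2 : ℕ) ≠ 0 by norm_num) ?_
  show _ ^ 2 = _ ^ 2
  refine (Md.card_tw_Uw w).trans ?_
  rw [Nat.card_eq_fintype_card, ZMod.card, ← pow_mul]
  congr 1
  exact (H37.Twist.inv_word Q2.X.good (om_lt w)).trans (H37.Twist.F4.len_ok w)

theorem H_bot : Md.tw.H = ⊥ := by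
  rw [eq_bot_iff]
  rintro _ ⟨⟨h, hσ⟩, hh, rfl⟩
  rw [Subgroup.mem_bot, show (⟨h, hσ⟩ : ↥(H37.NormalForm.fixedPts _)) = 1 from
    Subtype.ext (H_eq_one hh), map_one]

end TG

universe u

variable {X : Type u} [Group X] [Finite X] {K : Subgroup X} [K.Normal]

open Cfsg.Agent.H40.Tits Pointwise in
theorem false_tits (hX : Cfsg.IsPMinimal 2 X) (hs : IsSimpleGroup ↥K)
    (e : ↥K ≃* Cfsg.Lie.TitsGroup) : False := by
  haveI := Fact.mk Nat.prime_two
  haveI : Finite ↥Md.T := Subtype.finite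
  have hA : Hyp Md.tw 2 := twist_hyp Q2 2 Md
  have hH := TG.H_bot
  obtain ⟨hTi, hTc, ⟨eT'⟩⟩ :=
    TG.of_eq Cfsg.Agent.H40.Tits.model_T Cfsg.Agent.H40.Tits.tits.1 Cfsg.Agent.H40.Tits.tits.2.2.2
  set T : Subgroup ↥Md.T := commutator ↥Md.T with hT
  haveI : T.Normal := Subgroup.normal_of_index_eq_two hTi
  let eT : ↥T ≃* Cfsg.Lie.TitsGroup := eT'
  let f : ↥K →* ↥Md.T := T.subtype.comp (e.trans eT.symm).toMonoidHom
  have hf : Function.Injective f := T.subtype_injective.comp (e.trans eT.symm).injective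
  have hfr : f.range = T := by
    show (T.subtype.comp _).range = T
    rw [MonoidHom.range_comp, MonoidHom.range_eq_top.2 (e.trans eT.symm).surjective,
      ← MonoidHom.range_eq_map, Subgroup.range_subtype]
  have hKc : Nat.card ↥K = 17971200 := by
    rw [Nat.card_congr (e.trans eT.symm).toEquiv, hTc]
  -- orders
  have hU12 : Nat.card Md.tw.U = 4096 := by
    obtain ⟨w₀, hw₀⟩ := hA.full
    have h1 := Md.tw_Uw_w0
    rw [← h1, TG.card_Uw]
    have h2 : ∀ w, H37.Twist.F4.halfLen w ≤ 12 := by decide +kernel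
    have h3 := Subgroup.card_le_of_le (Md.tw.Uw_le (H37.Twist.F4.gens 0 * H37.Twist.F4.gens 1) )
    have h4 : ∀ w, (∀ v, H37.Twist.F4.halfLen v ≤ H37.Twist.F4.halfLen w) →
        H37.Twist.F4.halfLen w = 12 := by decide +kernel
    rw [h4 _ fun v => (Nat.pow_le_pow_iff_right (by norm_num : 1 < 2)).1 (by
      rw [← TG.card_Uw, ← TG.card_Uw, h1]
      exact Subgroup.card_le_of_le (Md.tw.Uw_le v))]
    rfl
  have hUT : ¬ Md.tw.U ≤ T := fun h => by
    have := Subgroup.card_dvd_of_le h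
    rw [hU12, hTc] at this
    norm_num at this
  have hU' : Nat.card ↥(Md.tw.U ⊓ T) = 2048 := by
    have := two_card_inf hTi hUT
    omega
  set a := H37.Twist.F4.gens 0 with ha
  set b := H37.Twist.F4.gens 1 with hb
  have haS : a ∈ Md.tw.S := ⟨(0 : Fin 2), rfl⟩
  have hbS : b ∈ Md.tw.S := ⟨(1 : Fin 2), rfl⟩
  have hUle : ∀ s, Md.tw.U ≤ par Md.tw {s} := fun s => Md.tw.U_le_B.trans (B_le_par _)
  have hcard : ∀ s ∈ Md.tw.S, Nat.card ↥(par Md.tw {s} ⊓ T) =
      2048 * (1 + 2 ^ H37.Twist.F4.halfLen s) := by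
    intro s hs
    have h1 := two_card_inf hTi (P := par Md.tw {s}) fun h => hUT ((hUle s).trans h)
    rw [card_par hA hH hs, TG.card_Uw, hU12] at h1
    omega
  have hh : (H37.Twist.F4.halfLen a = 1 ∧ H37.Twist.F4.halfLen b = 2) ∨
      (H37.Twist.F4.halfLen a = 2 ∧ H37.Twist.F4.halfLen b = 1) := TG.len_gens
  -- uniqueness
  have huniq : ∀ s ∈ ({a, b} : Set (DihedralGroup 8)), ∀ M : Subgroup ↥Md.T,
      Md.tw.U ⊓ T ≤ M → M ≤ T →
      Nat.card M = Nat.card ↥(par Md.tw {s} ⊓ T) → M = par Md.tw {s} ⊓ T := by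
    intro s hs M hUM hMT hM
    have hsS : s ∈ Md.tw.S := by rcases hs with rfl | rfl <;> assumption
    have hr : Nat.card M ≤ 5 * Nat.card ↥(Md.tw.U ⊓ T) := by
      rw [hM, hcard s hsS, hU']
      have h4 : 2 ^ H37.Twist.F4.halfLen s ≤ 4 := by
        rcases hs with rfl | rfl <;> rcases hh with ⟨h1, h2⟩ | ⟨h1, h2⟩ <;>
          simp only [h1, h2] <;> norm_num
      omega
    have hcells := small_overgroup hH hTi (a := a) (b := b) (fun w => by
      rw [TG.card_Uw, TG.card_Uw]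
      rcases TG.len_facts w with h | h | h | h | ⟨h1, h2, h3⟩
      · exact Or.inl h
      · exact Or.inr (Or.inl h)
      · exact Or.inr (Or.inr (Or.inl h))
      · exact Or.inr (Or.inr (Or.inr (Or.inl (le_trans (by norm_num) (Nat.pow_le_pow_right (show 0 < 2 by norm_num) h)))))
      · exact Or.inr (Or.inr (Or.inr (Or.inr ⟨le_trans (by norm_num) (Nat.pow_le_pow_right (show 0 < 2 by norm_num) h1), h2,
          le_trans (by norm_num) (Nat.pow_le_pow_right (show 0 < 2 by norm_num) h3)⟩)))) hMT hUM hr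
    have hsub : ∀ m ∈ M, m ∈ par Md.tw {a} ⊓ T ∨ m ∈ par Md.tw {b} ⊓ T := by
      intro m hm
      rcases hcells m hm with h | h | h
      · exact Or.inl ⟨hUle a (mem_inf_of_cell_one hH (hMT hm) h).1, hMT hm⟩
      · exact Or.inl ⟨mem_par_of_cell hA h, hMT hm⟩
      · exact Or.inr ⟨mem_par_of_cell hA h, hMT hm⟩
    have hor : M ≤ par Md.tw {a} ⊓ T ∨ M ≤ par Md.tw {b} ⊓ T := by
      by_contra hcon
      simp only [SetLike.le_def, not_or, not_forall] at hcon
      obtain ⟨⟨x, hx, hx1⟩, y, hy, hy2⟩ := hcon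
      have hx2 := (hsub x hx).resolve_left hx1
      have hy1 := (hsub y hy).resolve_right hy2
      rcases hsub _ (mul_mem hx hy) with h | h
      · exact hx1 ((Subgroup.mul_mem_cancel_right _ hy1).1 h)
      · exact hy2 ((Subgroup.mul_mem_cancel_left _ hx2).1 h)
    rcases hs with rfl | rfl <;> rcases hor with h | h
    · exact Subgroup.eq_of_le_of_card_ge h hM.ge
    · exfalso
      have := Subgroup.card_dvd_of_le h
      rw [hM, hcard _ hbS, hcard _ haS] at this
      rcases hh with ⟨h1, h2⟩ | ⟨h1, h2⟩ <;> rw [h1, h2] at this <;> norm_num at this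
    · exfalso
      have := Subgroup.card_dvd_of_le h
      rw [hM, hcard _ hbS, hcard _ haS] at this
      rcases hh with ⟨h1, h2⟩ | ⟨h1, h2⟩ <;> rw [h1, h2] at this <;> norm_num at this
    · exact Subgroup.eq_of_le_of_card_ge h hM.ge
  -- generation
  have hgen : (par Md.tw {a} ⊓ T) ⊔ (par Md.tw {b} ⊓ T) = T := by
    set L := (par Md.tw {a} ⊓ T) ⊔ (par Md.tw {b} ⊓ T) with hL
    refine le_antisymm (sup_le inf_le_right inf_le_right) ?_
    have hLT : L ≤ T := sup_le inf_le_right inf_le_right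
    have hUN : Md.tw.U ≤ Subgroup.normalizer (L : Set ↥Md.T) := by
      intro u hu
      refine Subgroup.mem_normalizer_fintype fun x hx => ?_
      have hle : L.map (MulAut.conj u).toMonoidHom ≤ L := by
        rw [Subgroup.map_sup]
        refine sup_le_sup ?_ ?_ <;>
        · rintro _ ⟨y, hy, rfl⟩
          exact ⟨(par Md.tw {_}).mul_mem ((par Md.tw {_}).mul_mem (hUle _ hu) hy.1)
            ((par Md.tw {_}).inv_mem (hUle _ hu)),
            (inferInstance : T.Normal).conj_mem _ hy.2 u⟩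
      exact hle ⟨x, hx, rfl⟩
    obtain ⟨u₀, hu₀, hu₀T⟩ := SetLike.not_le_iff_exists.1 hUT
    have hp : ∀ s, par Md.tw {s} ⊓ T ≤ L → par Md.tw {s} ≤ Md.tw.U ⊔ L := by
      intro s hs g hg
      by_cases hgT : g ∈ T
      · exact Subgroup.mem_sup_right (hs ⟨hg, hgT⟩)
      · rw [show g = g * u₀⁻¹ * u₀ by group]
        refine mul_mem (Subgroup.mem_sup_right (hs ⟨(par Md.tw {s}).mul_mem hg
          ((par Md.tw {s}).inv_mem (hUle s hu₀)), ?_⟩))
          (Subgroup.mem_sup_left hu₀)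
        exact (Subgroup.mul_mem_iff_of_index_two hTi).2 (iff_of_false hgT fun h => hu₀T (inv_mem_iff.1 h))
    have htop : Md.tw.U ⊔ L = ⊤ := by
      refine top_le_iff.1 ?_
      rw [← par_all hA]
      refine sup_le (fun x hx => ?_) ((Subgroup.closure_le _).2 ?_)
      · exact hp a le_sup_left (B_le_par _ hx)
      · rintro _ ⟨r, ⟨j, rfl⟩, rfl⟩
        have hj : ∀ j : Fin 2, j = 0 ∨ j = 1 := by decide
        rcases hj j with rfl | rfl
        · exact hp a le_sup_left (n_mem_par rfl)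
        · exact hp b le_sup_right (n_mem_par rfl)
    intro t ht
    have ht' : t ∈ (Md.tw.U : Set ↥Md.T) * (L : Set ↥Md.T) := by
      rw [← Subgroup.coe_mul_of_left_le_normalizer_right _ _ hUN, htop]
      exact Subgroup.mem_top t
    obtain ⟨u, hu, l, hl', rfl⟩ := Set.mem_mul.1 ht'
    have : u ∈ T := (Subgroup.mul_mem_cancel_right T (hLT hl')).1 ht
    exact mul_mem (le_sup_left (a := par Md.tw {a} ⊓ T) ⟨hUle a hu, this⟩) hl'
  -- transfer to `K`
  have hcf : ∀ H : Subgroup ↥Md.T, H ≤ T → (H.comap f).map f = H := fun H h => by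
    rw [Subgroup.map_comap_eq, hfr, inf_eq_right.2 h]
  set M₁ := (par Md.tw {a} ⊓ T).comap f with hM₁
  set M₂ := (par Md.tw {b} ⊓ T).comap f with hM₂
  have hcomap : ∀ H : Subgroup ↥Md.T, H ≤ T → Nat.card ↥(H.comap f) = Nat.card H := fun H h => by
    rw [← Subgroup.card_map_of_injective (f := f) hf, hcf H h]
  have hU0 : Nat.card ↥((Md.tw.U ⊓ T).comap f) = 2048 := by rw [hcomap _ inf_le_right, hU']
  let U : Sylow 2 ↥K := Sylow.ofCard ((Md.tw.U ⊓ T).comap f) (by
    rw [hU0, hKc, show (17971200 : ℕ) = 2 ^ 11 * 8775 by norm_num,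
      Nat.factorization_mul (by norm_num) (by norm_num), Finsupp.add_apply,
      Nat.factorization_eq_zero_of_not_dvd (show ¬ 2 ∣ 8775 by norm_num),
      Nat.prime_two.factorization_pow, Finsupp.single_eq_same]
    norm_num)
  have hUe : (U : Subgroup ↥K) = (Md.tw.U ⊓ T).comap f := rfl
  have hne : ∀ s ∈ ({a, b} : Set (DihedralGroup 8)), (par Md.tw {s} ⊓ T).comap f ≠ ⊤ := by
    intro s hs h
    have h1 := hcomap (par Md.tw {s} ⊓ T) inf_le_right
    rw [h, Subgroup.card_top, hKc] at h1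
    rcases hs with rfl | rfl
    · rw [hcard _ haS] at h1
      rcases hh with ⟨h1', -⟩ | ⟨h1', -⟩ <;> rw [h1'] at h1 <;> norm_num at h1
    · rw [hcard _ hbS] at h1
      rcases hh with ⟨-, h1'⟩ | ⟨-, h1'⟩ <;> rw [h1'] at h1 <;> norm_num at h1
  refine false_of_two hX hs U ?_ ?_ M₁ M₂ (hne a (Or.inl rfl)) (hne b (Or.inr rfl))
    (Subgroup.comap_mono fun x hx => ⟨hUle a hx.1, hx.2⟩)
    (Subgroup.comap_mono fun x hx => ⟨hUle b hx.1, hx.2⟩) (fun g hg => ?_) ?_
  · intro h
    rw [hUe] at h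
    rw [h, Subgroup.card_bot] at hU0
    norm_num at hU0
  · intro h
    rw [hUe] at h
    rw [h, Subgroup.card_top, hKc] at hU0
    norm_num at hU0
  · have key : ∀ s ∈ ({a, b} : Set (DihedralGroup 8)),
        ((par Md.tw {s} ⊓ T).comap f).map (MulAut.conjNormal g : ↥K ≃* ↥K).toMonoidHom ≤
          (par Md.tw {s} ⊓ T).comap f := by
      intro s hs
      rw [← Subgroup.map_le_iff_le_comap]
      refine le_of_eq (huniq s hs _ ?_ ?_ ?_)
      · have hmap : (U : Subgroup ↥K).map (MulAut.conjNormal g : ↥K ≃* ↥K).toMonoidHom = U :=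
          Subgroup.eq_of_le_of_card_ge (by rintro _ ⟨x, hx, rfl⟩; exact hg x hx)
            (Subgroup.card_map_of_injective (MulAut.conjNormal g : ↥K ≃* ↥K).injective).ge
        rw [← hcf (Md.tw.U ⊓ T) inf_le_right, ← hUe, ← hmap, hUe]
        exact Subgroup.map_mono (Subgroup.map_mono (Subgroup.comap_mono
          fun x hx => ⟨hUle s hx.1, hx.2⟩))
      · exact ((Subgroup.map_mono le_top).trans_eq (MonoidHom.range_eq_map f).symm).trans_eq hfr
      · rw [Subgroup.card_map_of_injective (f := f) hf,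
          ← hcomap (par Md.tw {s} ⊓ T) inf_le_right]
        exact Subgroup.card_map_of_injective (MulAut.conjNormal g : ↥K ≃* ↥K).injective
    exact ⟨key a (Or.inl rfl), key b (Or.inr rfl)⟩
  · refine Subgroup.map_injective (f := f) hf ?_
    rw [Subgroup.map_sup, hcf _ inf_le_right, hcf _ inf_le_right, hgen, ← MonoidHom.range_eq_map, hfr]

end Cfsg.Agent.H88.PMin
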