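import Cfsg.Agent.H88.PMin.Abstract
import Cfsg.Agent.H13.Split.Small

/-!
`PSU₃(3)` is not the simple socle of a 2-minimal group: the centralizer of the central involution
of a Sylow 2-subgroup and the normalizer of its square involutions generate the group.
-/

set_option autoImplicit false
set_option linter.unusedSectionVars false
set_option linter.unusedFintypeInType false
set_option maxRecDepth 100000

namespace Cfsg.Agent.H88.PMin

open Matrix Cfsg Cfsg.Agent.Unitary Cfsg.Agent.H67.U33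

section Canon

variable {G : Type*} [Group G]

/-- The central involutions. -/
def zInv (U : Subgroup G) : Set G := {x | x ∈ U ∧ x * x = 1 ∧ ∀ y ∈ U, x * y = y * x}

/-- The square involutions. -/
def sqInv (U : Subgroup G) : Set G := {x | x ∈ U ∧ x * x = 1 ∧ ∃ y ∈ U, y * y = x}

theorem map_zInv {U : Subgroup G} (α : G ≃* G) (h : U.map α.toMonoidHom = U) {x : G}
    (hx : x ∈ zInv U) : α x ∈ zInv U := by
  obtain ⟨h1, h2, h3⟩ := hx
  refine ⟨h ▸ Subgroup.mem_map_of_mem _ h1, by rw [← map_mul, h2, map_one], fun y hy => ?_⟩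
  obtain ⟨z, hz, rfl⟩ : y ∈ U.map α.toMonoidHom := h.symm ▸ hy
  show α x * α z = α z * α x
  rw [← map_mul, h3 z hz, map_mul]

theorem map_sqInv {U : Subgroup G} (α : G ≃* G) (h : U.map α.toMonoidHom = U) {x : G}
    (hx : x ∈ sqInv U) : α x ∈ sqInv U := by
  obtain ⟨h1, h2, y, hy, rfl⟩ := hx
  exact ⟨h ▸ Subgroup.mem_map_of_mem _ h1, by rw [← map_mul, h2, map_one], α y,
    h ▸ Subgroup.mem_map_of_mem _ hy, by rw [map_mul]⟩

theorem map_eq_self [Finite G] {U : Subgroup G} (α : G ≃* G) (h : ∀ x ∈ U, α x ∈ U) :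
    U.map α.toMonoidHom = U :=
  Subgroup.eq_of_le_of_card_ge (by rintro _ ⟨x, hx, rfl⟩; exact h x hx)
    (Subgroup.card_map_of_injective α.injective).ge

theorem centralizer_zInv_map [Finite G] {U : Subgroup G} (α : G ≃* G) (h : U.map α.toMonoidHom = U) :
    (Subgroup.centralizer (zInv U)).map α.toMonoidHom ≤ Subgroup.centralizer (zInv U) := by
  rintro _ ⟨g, hg, rfl⟩
  refine Subgroup.mem_centralizer_iff.2 fun x hx => ?_
  have hs : U.map α.symm.toMonoidHom = U := map_eq_self α.symm fun y hy => by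
    obtain ⟨z, hz, rfl⟩ : y ∈ U.map α.toMonoidHom := h.symm ▸ hy
    rwa [show α.symm (α.toMonoidHom z) = z from α.symm_apply_apply z]
  have := congrArg α (Subgroup.mem_centralizer_iff.1 hg _ (map_zInv α.symm hs hx))
  simpa using this

theorem normalizer_sqInv_map [Finite G] {U : Subgroup G} (α : G ≃* G)
    (h : U.map α.toMonoidHom = U) :
    (Subgroup.normalizer (sqInv U)).map α.toMonoidHom ≤ Subgroup.normalizer (sqInv U) := by
  rintro _ ⟨g, hg, rfl⟩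
  refine Subgroup.mem_normalizer_fintype fun x hx => ?_
  have hs : U.map α.symm.toMonoidHom = U := map_eq_self α.symm fun y hy => by
    obtain ⟨z, hz, rfl⟩ : y ∈ U.map α.toMonoidHom := h.symm ▸ hy
    rwa [show α.symm (α.toMonoidHom z) = z from α.symm_apply_apply z]
  have h1 : g * α.symm x * g⁻¹ ∈ sqInv U :=
    (Subgroup.mem_set_normalizer_iff.1 hg (α.symm x)).1 (map_sqInv α.symm hs hx)
  have := map_sqInv α h h1
  simpa using this

theorem le_centralizer_zInv (U : Subgroup G) : U ≤ Subgroup.centralizer (zInv U) :=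
  fun g hg => Subgroup.mem_centralizer_iff.2 fun _ hx => hx.2.2 g hg

theorem le_normalizer_sqInv [Finite G] (U : Subgroup G) : U ≤ Subgroup.normalizer (sqInv U) := by
  intro g hg
  refine Subgroup.mem_normalizer_fintype fun x hx => ?_
  obtain ⟨h1, h2, y, hy, rfl⟩ := hx
  refine ⟨mul_mem (mul_mem hg h1) (inv_mem hg), ?_, g * y * g⁻¹,
    mul_mem (mul_mem hg hy) (inv_mem hg), by group⟩
  calc g * (y * y) * g⁻¹ * (g * (y * y) * g⁻¹) = g * ((y * y) * (y * y)) * g⁻¹ := by group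
    _ = 1 := by rw [h2, mul_one, mul_inv_cancel]

end Canon

namespace UT

/-- The elements of norm one. -/
def mu : List K9 := [⟨1, 0⟩, ⟨2, 0⟩, ⟨0, 1⟩, ⟨0, 2⟩]

/-- A Sylow 2-subgroup. -/
def syl : List (Matrix (Fin 3) (Fin 3) K9) :=
  [!![1, 0, 0; 0, 1, 0; 0, 0, 1],
    !![1, 0, 0; 0, ⟨2, 0⟩, 0; 0, 0, ⟨2, 0⟩],
    !![1, 0, 0; 0, ⟨0, 1⟩, 0; 0, 0, ⟨0, 2⟩],
    !![1, 0, 0; 0, ⟨0, 2⟩, 0; 0, 0, ⟨0, 1⟩],
    !![⟨2, 0⟩, 0, 0; 0, 1, 0; 0, 0, ⟨2, 0⟩],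
    !![⟨2, 0⟩, 0, 0; 0, ⟨2, 0⟩, 0; 0, 0, 1],
    !![⟨2, 0⟩, 0, 0; 0, ⟨0, 1⟩, 0; 0, 0, ⟨0, 1⟩],
    !![⟨2, 0⟩, 0, 0; 0, ⟨0, 2⟩, 0; 0, 0, ⟨0, 2⟩],
    !![⟨0, 1⟩, 0, 0; 0, 1, 0; 0, 0, ⟨0, 2⟩],
    !![⟨0, 1⟩, 0, 0; 0, ⟨2, 0⟩, 0; 0, 0, ⟨0, 1⟩],
    !![⟨0, 1⟩, 0, 0; 0, ⟨0, 1⟩, 0; 0, 0, ⟨2, 0⟩],
    !![⟨0, 1⟩, 0, 0; 0, ⟨0, 2⟩, 0; 0, 0, 1],
    !![⟨0, 2⟩, 0, 0; 0, 1, 0; 0, 0, ⟨0, 1⟩],
    !![⟨0, 2⟩, 0, 0; 0, ⟨2, 0⟩, 0; 0, 0, ⟨0, 2⟩],
    !![⟨0, 2⟩, 0, 0; 0, ⟨0, 1⟩, 0; 0, 0, 1],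
    !![⟨0, 2⟩, 0, 0; 0, ⟨0, 2⟩, 0; 0, 0, ⟨2, 0⟩],
    !![1, 0, 0; 0, 0, 1; 0, ⟨2, 0⟩, 0],
    !![1, 0, 0; 0, 0, ⟨2, 0⟩; 0, 1, 0],
    !![1, 0, 0; 0, 0, ⟨0, 1⟩; 0, ⟨0, 1⟩, 0],
    !![1, 0, 0; 0, 0, ⟨0, 2⟩; 0, ⟨0, 2⟩, 0],
    !![⟨2, 0⟩, 0, 0; 0, 0, 1; 0, 1, 0],
    !![⟨2, 0⟩, 0, 0; 0, 0, ⟨2, 0⟩; 0, ⟨2, 0⟩, 0],
    !![⟨2, 0⟩, 0, 0; 0, 0, ⟨0, 1⟩; 0, ⟨0, 2⟩, 0],
    !![⟨2, 0⟩, 0, 0; 0, 0, ⟨0, 2⟩; 0, ⟨0, 1⟩, 0],
    !![⟨0, 1⟩, 0, 0; 0, 0, 1; 0, ⟨0, 1⟩, 0],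
    !![⟨0, 1⟩, 0, 0; 0, 0, ⟨2, 0⟩; 0, ⟨0, 2⟩, 0],
    !![⟨0, 1⟩, 0, 0; 0, 0, ⟨0, 1⟩; 0, 1, 0],
    !![⟨0, 1⟩, 0, 0; 0, 0, ⟨0, 2⟩; 0, ⟨2, 0⟩, 0],
    !![⟨0, 2⟩, 0, 0; 0, 0, 1; 0, ⟨0, 2⟩, 0],
    !![⟨0, 2⟩, 0, 0; 0, 0, ⟨2, 0⟩; 0, ⟨0, 1⟩, 0],
    !![⟨0, 2⟩, 0, 0; 0, 0, ⟨0, 1⟩; 0, ⟨2, 0⟩, 0],
    !![⟨0, 2⟩, 0, 0; 0, 0, ⟨0, 2⟩; 0, 1, 0]]

/-- The central involution. -/
def zel : Matrix (Fin 3) (Fin 3) K9 := !![1, 0, 0; 0, -1, 0; 0, 0, -1]

/-- A square involution. -/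
def vel : Matrix (Fin 3) (Fin 3) K9 := !![-1, 0, 0; 0, 1, 0; 0, 0, -1]

/-- An element of the centralizer. -/
def m1 : Matrix (Fin 3) (Fin 3) K9 := !![⟨0, 1⟩, 0, 0; 0, ⟨1, 1⟩, ⟨1, 1⟩; 0, ⟨1, 1⟩, ⟨2, 2⟩]

/-- An element of the normalizer. -/
def m2 : Matrix (Fin 3) (Fin 3) K9 := !![0, 1, 0; 1, 0, 0; 0, 0, -1]

/-- The square involutions in the list. -/
def sq : List (Matrix (Fin 3) (Fin 3) K9) :=
  syl.filter fun x => decide (x * x = 1) && decide (∃ y ∈ syl, y * y = x)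

theorem good_mul {a b : Matrix (Fin 3) (Fin 3) K9} (ha : Good a) (hb : Good b) : Good (a * b) := by
  have hadd : ∀ x y : K9, (x + y) ^ 3 = x ^ 3 + y ^ 3 := by
    intro x y
    have h3 : (3 : K9) = 0 := by decide +kernel
    linear_combination (x ^ 2 * y + x * y ^ 2) * h3
  let f : K9 →+* K9 :=
    { toFun := fun x => x ^ 3
      map_one' := one_pow 3
      map_mul' := fun x y => mul_pow x y 3
      map_zero' := zero_pow three_ne_zero
      map_add' := hadd }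
  refine ⟨?_, by rw [Matrix.det_mul, ha.2, hb.2, one_mul]⟩
  rw [show (a * b).map (fun x => x ^ 3) = a.map (fun x => x ^ 3) * b.map (fun x => x ^ 3) from
    Matrix.map_mul (f := f), Matrix.transpose_mul, mul_assoc, ← mul_assoc aᵀ, ha.1, one_mul, hb.1]

theorem syl_length : syl.toFinset.card = 32 := by decide +kernel
theorem one_mem_syl : (1 : Matrix (Fin 3) (Fin 3) K9) ∈ syl := by decide +kernel
theorem syl_mul_0 : ∀ a ∈ (syl.drop 0).take 4, ∀ b ∈ syl, a * b ∈ syl := by decide +kernel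
theorem syl_mul_1 : ∀ a ∈ (syl.drop 4).take 4, ∀ b ∈ syl, a * b ∈ syl := by decide +kernel
theorem syl_mul_2 : ∀ a ∈ (syl.drop 8).take 4, ∀ b ∈ syl, a * b ∈ syl := by decide +kernel
theorem syl_mul_3 : ∀ a ∈ (syl.drop 12).take 4, ∀ b ∈ syl, a * b ∈ syl := by decide +kernel
theorem syl_mul_4 : ∀ a ∈ (syl.drop 16).take 4, ∀ b ∈ syl, a * b ∈ syl := by decide +kernel
theorem syl_mul_5 : ∀ a ∈ (syl.drop 20).take 4, ∀ b ∈ syl, a * b ∈ syl := by decide +kernel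
theorem syl_mul_6 : ∀ a ∈ (syl.drop 24).take 4, ∀ b ∈ syl, a * b ∈ syl := by decide +kernel
theorem syl_mul_7 : ∀ a ∈ (syl.drop 28).take 4, ∀ b ∈ syl, a * b ∈ syl := by decide +kernel

theorem syl_mul : ∀ a ∈ syl, ∀ b ∈ syl, a * b ∈ syl := by
  intro a ha
  have h : a ∈ (syl.drop 0).take 4 ++ (syl.drop 4).take 4 ++ (syl.drop 8).take 4 ++ (syl.drop 12).take 4 ++
      (syl.drop 16).take 4 ++ (syl.drop 20).take 4 ++ (syl.drop 24).take 4 ++ (syl.drop 28).take 4 := ha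
  simp only [List.mem_append] at h
  rcases h with ((((((h | h) | h) | h) | h) | h) | h) | h
  exacts [syl_mul_0 a h, syl_mul_1 a h, syl_mul_2 a h, syl_mul_3 a h, syl_mul_4 a h, syl_mul_5 a h,
    syl_mul_6 a h, syl_mul_7 a h]
theorem syl_good : ∀ a ∈ syl, Good a := by decide +kernel
theorem zel_mem : zel ∈ syl ∧ zel * zel = 1 ∧ ∀ y ∈ syl, zel * y = y * zel := by decide +kernel
theorem central_eq : ∀ x ∈ syl, x * x = 1 → (∀ y ∈ syl, x * y = y * x) → x = 1 ∨ x = zel := by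
  decide +kernel
theorem m_good : Good m1 ∧ Good m2 ∧ Good w7 ∧ Good (m1 * m2) := by decide +kernel
theorem m1_comm : m1 * zel = zel * m1 := by decide +kernel
theorem m2_norm : ∀ x ∈ sq, ∃ y ∈ sq, m2 * x = y * m2 := by decide +kernel
theorem w7_zel : w7 * zel ≠ zel * w7 := by decide +kernel
theorem w7_sq : vel ∈ sq ∧ ∀ y ∈ sq, w7 * vel ≠ y * w7 := by decide +kernel
theorem m_seven : (m1 * m2) ^ 7 = 1 ∧ m1 * m2 ≠ 1 := by decide +kernel

end UT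

attribute [local irreducible] UT.syl

universe u

variable {X : Type u} [Group X] [Finite X] {K : Subgroup X} [K.Normal]

theorem false_u_three (hX : Cfsg.IsPMinimal 2 X) (hs : IsSimpleGroup ↥K) {F : Type} [Field F]
    [Fintype F] (hF : Fintype.card F = 9) (e : ↥K ≃* Cfsg.PSU 3 F 3) : False := by
  haveI := Fact.mk Nat.prime_two
  haveI := Fact.mk Nat.prime_three
  obtain ⟨φ, hφ⟩ := exists_equiv hF
  have hF' : Fintype.card F = 3 ^ 2 := hF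
  have hcen : Subgroup.center (SU 3 F 3) = ⊥ :=
    Subgroup.card_eq_one.1 ((card_center_SU (n := 3) (q := 3) hF' (by norm_num)).trans rfl)
  let π : SU 3 F 3 →* Cfsg.PSU 3 F 3 := QuotientGroup.mk' _
  have hπ : Function.Injective π := by
    rw [← MonoidHom.ker_eq_bot_iff]
    exact (QuotientGroup.ker_mk' _).trans hcen
  have hm : Function.Injective (φ.mapMatrix (m := Fin 3)) := Matrix.map_injective hφ.1
  have hp : ∀ m : Matrix (Fin 3) (Fin 3) K9, Good m →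
      Preserves 3 (φ.mapMatrix m) ∧ (φ.mapMatrix m).det = 1 := by
    intro m hw
    refine ⟨?_, by rw [← RingHom.map_det, hw.2, map_one]⟩
    rw [preserves_iff_transpose_mul hF', ← map_one φ.mapMatrix, ← hw.1, map_mul]
    congr 1
    ext i j
    simp
  obtain ⟨ψ, hψ⟩ : ∃ ψ : Matrix (Fin 3) (Fin 3) K9 → ↥K,
      ∀ m (hw : Good m), ψ m = e.symm (π (toSU (hp m hw).1 (hp m hw).2)) := by
    classical
    exact ⟨fun m => if hw : Good m then e.symm (π (toSU (hp m hw).1 (hp m hw).2)) else 1,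
      fun m hw => dif_pos hw⟩
  have hinj : ∀ a b, Good a → Good b → ψ a = ψ b → a = b := by
    intro a b ha hb h
    rw [hψ a ha, hψ b hb] at h
    exact hm (congrArg (fun x : SU 3 F 3 => slToMat 3 F x.1) (hπ (e.symm.injective h)))
  have hmul : ∀ a b, Good a → Good b → ψ (a * b) = ψ a * ψ b := by
    intro a b ha hb
    rw [hψ a ha, hψ b hb, hψ _ (UT.good_mul ha hb), ← map_mul, ← map_mul]
    exact congrArg (fun x => e.symm (π x)) (Subtype.ext (Subtype.ext (map_mul φ.mapMatrix a b)))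
  have g1 : Good (1 : Matrix (Fin 3) (Fin 3) K9) := UT.syl_good _ UT.one_mem_syl
  have hone : ψ 1 = 1 := by
    have := hmul 1 1 g1 g1
    rw [one_mul] at this
    exact mul_eq_left.1 this.symm
  have key : ∀ a b a' b', Good a → Good b → Good a' → Good b' →
      (ψ a * ψ b = ψ a' * ψ b' ↔ a * b = a' * b') := by
    intro a b a' b' ha hb ha' hb'
    rw [← hmul a b ha hb, ← hmul a' b' ha' hb']
    exact ⟨hinj _ _ (UT.good_mul ha hb) (UT.good_mul ha' hb'), fun h => by rw [h]⟩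
  -- the Sylow subgroup
  obtain ⟨hG, hord⟩ : Nat.card ↥K = 6048 ∧
      ∀ (H : Subgroup ↥K) (x : ↥H), orderOf x ∣ 12 ∨ orderOf x ∣ 8 ∨ orderOf x ∣ 7 := by
    refine ⟨by rw [Nat.card_congr e.toEquiv]; exact (psu_facts hF).1, fun H x => ?_⟩
    have h : orderOf (e (x : ↥K)) ∈ Set.range (orderOf : Cfsg.PSU 3 F 3 → ℕ) := ⟨_, rfl⟩
    rw [range_orderOf_PSU hF] at h
    simpa [MulEquiv.orderOf_eq, Subgroup.orderOf_coe] using h
  let Um : Submonoid ↥K :=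
    { carrier := {x | ∃ m ∈ UT.syl, ψ m = x}
      one_mem' := ⟨1, UT.one_mem_syl, hone⟩
      mul_mem' := by
        rintro _ _ ⟨a, ha, rfl⟩ ⟨b, hb, rfl⟩
        exact ⟨a * b, UT.syl_mul a ha b hb, hmul a b (UT.syl_good a ha) (UT.syl_good b hb)⟩ }
  let U₀ : Subgroup ↥K :=
    { Um with
      inv_mem' := fun {x} hx => by
        show x⁻¹ ∈ Um
        have h : x ^ (orderOf x - 1) * x = 1 := by
          rw [← pow_succ, Nat.sub_add_cancel (orderOf_pos x), pow_orderOf_eq_one]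
        rw [← eq_inv_of_mul_eq_one_left h]
        exact pow_mem hx _ }
  have hU₀ : Nat.card U₀ = 32 := by
    rw [← UT.syl_length, ← Nat.card_eq_finsetCard]
    refine (Nat.card_eq_of_bijective (fun m => (⟨ψ m.1, m.1, List.mem_toFinset.1 m.2, rfl⟩ : ↥U₀))
      ⟨fun a b h => ?_, ?_⟩).symm
    · exact Subtype.ext (hinj _ _ (UT.syl_good _ (List.mem_toFinset.1 a.2))
        (UT.syl_good _ (List.mem_toFinset.1 b.2)) (congrArg Subtype.val h))
    · rintro ⟨x, m, h, rfl⟩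
      exact ⟨⟨m, List.mem_toFinset.2 h⟩, rfl⟩
  let U : Sylow 2 ↥K := Sylow.ofCard U₀ (by
    rw [hU₀, hG, show (6048 : ℕ) = 2 ^ 5 * 189 by norm_num,
      Nat.factorization_mul (by norm_num) (by norm_num), Finsupp.add_apply,
      Nat.factorization_eq_zero_of_not_dvd (show ¬ 2 ∣ 189 by norm_num),
      Nat.prime_two.factorization_pow, Finsupp.single_eq_same]
    rfl)
  have hUe : (U : Subgroup ↥K) = U₀ := rfl
  have hz : ∀ x ∈ zInv U₀, x = 1 ∨ x = ψ UT.zel := by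
    rintro _ ⟨⟨m, hm', rfl⟩, h2, h3⟩
    have hg := UT.syl_good m hm'
    rcases UT.central_eq m hm' (hinj _ _ (UT.good_mul hg hg) g1 (by rw [hmul m m hg hg, h2, hone]))
        (fun y hy => (key _ _ _ _ hg (UT.syl_good y hy) (UT.syl_good y hy) hg).1
          (h3 _ ⟨y, hy, rfl⟩)) with rfl | rfl
    · exact Or.inl hone
    · exact Or.inr rfl
  have hsq : ∀ x, x ∈ sqInv U₀ ↔ ∃ m ∈ UT.sq, ψ m = x := by
    intro x
    simp only [UT.sq, List.mem_filter, Bool.and_eq_true, decide_eq_true_eq]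
    constructor
    · rintro ⟨⟨m, hm', rfl⟩, h2, _, ⟨n, hn, rfl⟩, h3⟩
      have hg := UT.syl_good m hm'
      have hn' := UT.syl_good n hn
      exact ⟨m, ⟨hm', hinj _ _ (UT.good_mul hg hg) g1 (by rw [hmul m m hg hg, h2, hone]), n, hn,
        hinj _ _ (UT.good_mul hn' hn') hg (by rw [hmul n n hn' hn', h3])⟩, rfl⟩
    · rintro ⟨m, ⟨hm', h2, n, hn, rfl⟩, rfl⟩
      have hg := UT.syl_good _ hm'
      have hn' := UT.syl_good n hn
      exact ⟨⟨_, hm', rfl⟩, by rw [← hmul _ _ hg hg, h2, hone], _, ⟨n, hn, rfl⟩,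
        (hmul n n hn' hn').symm⟩
  have hzg := UT.syl_good _ UT.zel_mem.1
  have hzel : ψ UT.zel ∈ zInv U₀ := by
    refine ⟨⟨_, UT.zel_mem.1, rfl⟩, by rw [← hmul _ _ hzg hzg, UT.zel_mem.2.1, hone], ?_⟩
    rintro _ ⟨y, hy, rfl⟩
    exact (key _ _ _ _ hzg (UT.syl_good y hy) (UT.syl_good y hy) hzg).2 (UT.zel_mem.2.2 y hy)
  obtain ⟨k1, k2, k7, k12⟩ := UT.m_good
  set M₁ := Subgroup.centralizer (zInv U₀) with hM₁
  set M₂ := Subgroup.normalizer (sqInv U₀) with hM₂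
  have hm1 : ψ UT.m1 ∈ M₁ := Subgroup.mem_centralizer_iff.2 fun x hx => by
    rcases hz x hx with rfl | rfl
    · rw [one_mul, mul_one]
    · exact (key _ _ _ _ hzg k1 k1 hzg).2 UT.m1_comm.symm
  have hm2 : ψ UT.m2 ∈ M₂ := Subgroup.mem_normalizer_fintype fun x hx => by
    obtain ⟨m, hm', rfl⟩ := (hsq x).1 hx
    obtain ⟨y, hy, e'⟩ := UT.m2_norm m hm'
    refine (hsq _).2 ⟨y, hy, ?_⟩
    rw [eq_mul_inv_iff_mul_eq, eq_comm]
    exact (key _ _ _ _ k2 (UT.syl_good m (List.mem_filter.1 hm').1)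
      (UT.syl_good y (List.mem_filter.1 hy).1) k2).2 e'
  have h7 : orderOf (ψ (UT.m1 * UT.m2)) = 7 := by
    haveI := Fact.mk (by norm_num : Nat.Prime 7)
    have hpow : ∀ n : ℕ, Good ((UT.m1 * UT.m2) ^ n) ∧
        ψ ((UT.m1 * UT.m2) ^ n) = ψ (UT.m1 * UT.m2) ^ n := by
      intro n
      induction n with
      | zero => rw [pow_zero, pow_zero]; exact ⟨g1, hone⟩
      | succ n ih =>
        rw [pow_succ, pow_succ]
        exact ⟨UT.good_mul ih.1 k12, by rw [hmul _ _ ih.1 k12, ih.2]⟩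
    refine orderOf_eq_prime (by rw [← (hpow 7).2, UT.m_seven.1, hone]) fun h => UT.m_seven.2 ?_
    exact hinj _ _ k12 g1 (h.trans hone.symm)
  have hgen : M₁ ⊔ M₂ = ⊤ := by
    set H := M₁ ⊔ M₂ with hH
    have hU : U₀ ≤ H := (le_centralizer_zInv U₀).trans le_sup_left
    have h32 : 32 ∣ Nat.card H := hU₀ ▸ Subgroup.card_dvd_of_le hU
    have h7' : 7 ∣ Nat.card H := by
      have hmem : ψ (UT.m1 * UT.m2) ∈ H := by
        rw [hmul _ _ k1 k2]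
        exact mul_mem (Subgroup.mem_sup_left hm1) (Subgroup.mem_sup_right hm2)
      have := orderOf_dvd_natCard (⟨_, hmem⟩ : ↥H)
      rwa [Subgroup.orderOf_mk, h7] at this
    have hd : Nat.card H ∣ 6048 := hG ▸ Subgroup.card_subgroup_dvd_card H
    obtain ⟨k, hk⟩ : 224 ∣ Nat.card H :=
      Nat.Coprime.mul_dvd_of_dvd_of_dvd (by norm_num : Nat.Coprime 32 7) h32 h7'
    have hk27 : k ∈ Nat.divisors 27 := Nat.mem_divisors.2 ⟨Nat.dvd_of_mul_dvd_mul_left (by norm_num)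
      (show 224 * k ∣ 224 * 27 by rw [← hk]; exact hd), by norm_num⟩
    rw [show Nat.divisors 27 = {1, 3, 9, 27} by decide] at hk27
    simp only [Finset.mem_insert, Finset.mem_singleton] at hk27
    by_contra hne
    haveI := hs
    have hf := H13.Split.card_dvd_factorial hne
    have hi := H.card_mul_index
    rw [hG] at hf hi
    rcases hk27 with rfl | rfl | rfl | rfl
    · exact H13.Split.false_of_seven (Or.inl (by omega)) (hord H)
    · exact H13.Split.false_of_seven (Or.inr (by omega)) (hord H)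
    · rw [show H.index = 3 by rw [hk] at hi; omega] at hf
      exact absurd hf (by decide)
    · exact hne (Subgroup.eq_top_of_card_eq _ (by omega))
  refine false_of_two hX hs U ?_ ?_ M₁ M₂ ?_ ?_ (le_centralizer_zInv U₀) (le_normalizer_sqInv U₀)
    (fun g hg => ?_) hgen
  · intro h
    rw [hUe] at h
    rw [h, Subgroup.card_bot] at hU₀
    omega
  · intro h
    rw [hUe] at h
    rw [h, Subgroup.card_top, hG] at hU₀
    omega
  · intro h
    exact UT.w7_zel ((key _ _ _ _ k7 hzg hzg k7).1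
      (Subgroup.mem_centralizer_iff.1 (show ψ w7 ∈ M₁ by rw [h]; exact Subgroup.mem_top _) _ hzel).symm)
  · intro h
    obtain ⟨hv, hv'⟩ := UT.w7_sq
    have hvg : Good UT.vel := UT.syl_good _ (List.mem_filter.1 hv).1
    obtain ⟨y, hy, e'⟩ := (hsq _).1 ((Subgroup.mem_set_normalizer_iff.1
      (show ψ w7 ∈ M₂ by rw [h]; exact Subgroup.mem_top _) _).1 ((hsq _).2 ⟨_, hv, rfl⟩))
    rw [eq_mul_inv_iff_mul_eq, eq_comm] at e'
    exact hv' y hy ((key _ _ _ _ k7 hvg (UT.syl_good y (List.mem_filter.1 hy).1) k7).1 e')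
  · have hα := map_eq_self (U := U₀) (MulAut.conjNormal g : ↥K ≃* ↥K) hg
    exact ⟨centralizer_zInv_map _ hα, normalizer_sqInv_map _ hα⟩

end Cfsg.Agent.H88.PMin
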