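import Cfsg.Agent.H88.PMin.Unitary
import Cfsg.Agent.H88.PMin.Exceptional
import Cfsg.Agent.H88.PMin.UThree
import Cfsg.Agent.H88.PMin.Small
import Cfsg.Agent.H88.PMin.Tits

/-!
p-minimal groups with a socle of Lie type in characteristic `p`: the Borel normaliser is maximal
and the socle has rank one, or is `PSL₃(2^e)`, `PSp₄(2^e)` or `A₆` properly extended.
-/

set_option autoImplicit false
set_option linter.unusedSectionVars false
set_option linter.style.haveILetI false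
set_option maxRecDepth 100000

namespace Cfsg.Agent.H88.PMin

open Cfsg.Lie Cfsg.Agent.H13.Split

theorem good_of_isLieTypeChar {K : Type*} [Group K] [Finite K] {p : ℕ} [hp : Fact p.Prime]
    (h : Cfsg.IsLieTypeChar p K) : Good p K := by
  have hs := H83.isSimpleGroup_of_isLieTypeChar h
  have one : Cfsg.IsLieRankOneChar p K → Good p K := fun h1 => by
    obtain ⟨W, _, _, A, hA⟩ := H83.DefChar.isSplit_of_isLieTypeChar h
    exact ⟨W, inferInstance, inferInstance, A, hA, fun _ _ => Or.inl h1⟩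
  rcases h with ⟨F, iF, iT, iC, n, hn, h2, ⟨e⟩⟩ | ⟨F, iF, iT, iC, m, hm, h2, ⟨e⟩⟩ |
    ⟨F, iF, iT, iC, n, q, hF, hn, hne, ⟨e⟩⟩ | ⟨F, iF, iT, iC, m, hm, hodd, ⟨e⟩⟩ |
    ⟨F, iF, iT, iC, m, hm, ⟨e⟩⟩ | ⟨F, iF, iT, iC, m, a, b, hm, hab, ⟨e⟩⟩ |
    ⟨F, iF, iT, iC, ⟨-, ⟨e⟩⟩ | e | e | e | e⟩ |
    ⟨L, iF, iT, iC, q, hq, ⟨hK, ⟨e⟩⟩ | ⟨hK, ⟨e⟩⟩⟩ |
    ⟨rfl, hSz⟩ | ⟨rfl, L, iF, iT, m, -, hK, ⟨e⟩⟩ | ⟨rfl, hRee⟩
  · exact good_psl hn h2 e
  · exact good_psp hm h2 e
  · exact good_psu hF hn hne e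
  · exact good_omega_odd hm hodd e
  · exact good_omega_plus hm e
  · exact good_omega_minus hm hab e
  · exact good_G2 hs e
  · obtain ⟨e⟩ := e; exact good_chev (by simp) (by decide) e
  · obtain ⟨e⟩ := e; exact good_chev (by simp) (by decide) e
  · obtain ⟨e⟩ := e; exact good_chev (by simp) (by decide) e
  · obtain ⟨e⟩ := e; exact good_chev (by simp) (by decide) e
  · exact good_E6 hq hK e
  · exact good_D4 hq hK e
  · exact one (Or.inr (Or.inr (Or.inl ⟨rfl, hSz⟩)))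
  · exact good_F4 hK e
  · exact one (Or.inr (Or.inr (Or.inr ⟨rfl, Or.inl hRee⟩)))

/-- Simplicity along an isomorphism. -/
theorem simple_of_iso {G H : Type*} [Group G] [Group H] (e : G ≃* H) (h : IsSimpleGroup H) :
    IsSimpleGroup G :=
  haveI := h
  MulEquiv.isSimpleGroup e

theorem tits_simple : IsSimpleGroup Cfsg.Lie.TitsGroup := Cfsg.Agent.H40.Tits.tits.2.1

theorem simple_of_tits {G : Type*} [Group G] (e : G ≃* Cfsg.Lie.TitsGroup) : IsSimpleGroup G :=
  @simple_of_iso G Cfsg.Lie.TitsGroup _ _ e tits_simple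

universe u

theorem false_of_tits {X : Type u} [Group X] [Finite X] {K : Subgroup X} [K.Normal]
    (hX : Cfsg.IsPMinimal 2 X) (h : Cfsg.Lie.IsoTits ↥K) : False :=
  Nonempty.elim h fun e => false_tits hX (simple_of_tits e) e

/-- The main theorem. -/
theorem final {X : Type u} [Group X] [Finite X] {p : ℕ} [Fact p.Prime]
    (hX : Cfsg.IsPMinimal p X) {K : Subgroup X} [K.Normal] (hK : Cfsg.IsChevSimple p ↥K)
    (U : Sylow p ↥K) :
    IsCoatom (Subgroup.normalizer (((U : Subgroup ↥K).map K.subtype : Subgroup X) : Set X)) ∧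
      (Cfsg.IsLieRankOneChar p ↥K ∨ (p = 2 ∧ K ≠ ⊤ ∧ Swapped ↥K)) := by
  rcases hK with h | ⟨rfl, e | ⟨F, iF, iT, hF, ⟨e⟩⟩ | e⟩ | ⟨rfl, F, iF, iT, hF, ⟨e⟩⟩
  · have hs := H83.isSimpleGroup_of_isLieTypeChar h
    obtain ⟨W, iW, iWf, A, hA, hgood⟩ := good_of_isLieTypeChar h
    obtain ⟨h1, h2⟩ := main hX hs hA (hA.pU.toSylow hA.not_dvd_index) rfl
    exact ⟨coatom_of_sylow _ U h1, hgood _ h2⟩
  · obtain ⟨e⟩ := e
    have hs : IsSimpleGroup ↥K := by
      haveI : IsSimpleGroup ↥(alternatingGroup (Fin 6)) :=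
        alternatingGroup.isSimpleGroup (by rw [Nat.card_eq_fintype_card, Fintype.card_fin]; norm_num)
      exact MulEquiv.isSimpleGroup e
    obtain ⟨h1, V, h2⟩ := alt_six_case hX hs e
    exact ⟨coatom_of_sylow _ U h2, Or.inr ⟨rfl, h1, Or.inr (Or.inr ⟨e⟩)⟩⟩
  · haveI := Fact.mk Nat.prime_three
    haveI : CharP F 3 := charP_of_card_eq_prime_pow (p := 3) (f := 2) (by rw [hF]; norm_num)
    have hs : IsSimpleGroup ↥K := H83.isSimpleGroup_of_isLieTypeChar (p := 3)
      (Or.inr (Or.inr (Or.inl ⟨F, iF, iT, inferInstance, 3, 3, hF, le_rfl, by norm_num, ⟨e⟩⟩)))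
    exact (false_u_three hX hs hF e).elim
  · exact (false_of_tits hX e).elim
  · haveI : CharP F 2 := by
      haveI := Fact.mk Nat.prime_two
      exact charP_of_card_eq_prime_pow (p := 2) (f := 3) (by rw [hF]; norm_num)
    have hs : IsSimpleGroup ↥K := H83.isSimpleGroup_of_isLieTypeChar (p := 2)
      (Or.inl ⟨F, iF, iT, inferInstance, 2, le_rfl, fun _ => by omega, ⟨e⟩⟩)
    refine ⟨coatom_of_maximal U (normalizer_ne_top hs U ?_ ?_)
      (fun L hle hL => maximal_psl_two_eight hF e U L hle hL),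
      Or.inl (Or.inr (Or.inr (Or.inr ⟨rfl, Or.inr ⟨F, iF, iT, hF, ⟨e⟩⟩⟩)))⟩
    all_goals
      have hc : Nat.card ↥K = 504 := by
        have h := Linear.card_PSL_two_mul (F := F)
        rw [hF] at h
        norm_num at h
        rw [Nat.card_congr e.toEquiv]
        omega
      intro h
      have hU := Sylow.card_eq_multiplicity U
      rw [h, hc, show (504 : ℕ) = 3 ^ 2 * 56 by norm_num,
        Nat.factorization_mul (by norm_num) (by norm_num), Finsupp.add_apply,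
        Nat.factorization_eq_zero_of_not_dvd (show ¬ 3 ∣ 56 by norm_num),
        Nat.prime_three.factorization_pow, Finsupp.single_eq_same] at hU
    · rw [Subgroup.card_bot] at hU
      norm_num at hU
    · rw [Subgroup.card_top, hc] at hU
      norm_num at hU

end Cfsg.Agent.H88.PMin
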