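import Cfsg.Agent.H88.PMin.Perm
import Cfsg.Agent.H60.PMinimal

/-!
A p-minimal group with a normal subgroup carrying a split Tits system: the Borel normaliser is
maximal and the Sylow subgroup is transitive on the fundamental elements, of which there are at
most two.
-/

set_option autoImplicit false
set_option linter.unusedSectionVars false

namespace Cfsg.Agent.H88.PMin

open Cfsg.Agent.H28 Cfsg.Agent.H54.BNC
open Cfsg.Agent.H37 (Tits.Ambient)
open Cfsg.Agent.H13.Split Cfsg.Agent.H83.DefChar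

/-- There is at most one fundamental element, or there are two in characteristic two and an
automorphism of the system exchanges them. -/
def RankCases {G W : Type*} [Group G] [Group W] (A : Tits.Ambient G W) (p : ℕ) (proper : Prop) : Prop :=
  A.S.Subsingleton ∨ (p = 2 ∧ proper ∧ A.S.ncard = 2 ∧ ∀ s ∈ A.S, ∀ t ∈ A.S, ∃ α : G ≃* G,
    A.U.map α.toMonoidHom = A.U ∧ (par A {s}).map α.toMonoidHom = par A {t})

universe u

variable {X : Type u} [Group X] [Finite X] {p : ℕ} [hp : Fact p.Prime] (hX : Cfsg.IsPMinimal p X)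
  {K : Subgroup X} [K.Normal] (hs : IsSimpleGroup ↥K) {W : Type} [Group W] [Finite W]
  {A : Tits.Ambient ↥K W} (hA : Hyp A p)

/-- `g` carries `s` to `t`. -/
def Carries (A : Tits.Ambient ↥K W) (g : X) (s t : W) : Prop :=
  (par A {s}).map (MulAut.conjNormal g : ↥K ≃* ↥K).toMonoidHom = par A {t}

theorem Carries.mul {g h : X} {s t r : W} (h1 : Carries A g s t) (h2 : Carries A h t r) :
    Carries A (h * g) s r := by
  unfold Carries at *
  rw [← h2, ← h1, Subgroup.map_map]
  congr 1
  ext x
  simp [mul_assoc]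

theorem Carries.one (s : W) : Carries A (1 : X) s s := by
  unfold Carries
  convert Subgroup.map_id (par A {s})
  ext x
  simp

theorem Carries.inv {g : X} {s t : W} (h : Carries A g s t) : Carries A g⁻¹ t s := by
  unfold Carries at *
  rw [← h, Subgroup.map_map]
  convert Subgroup.map_id (par A {s})
  ext x
  simp [mul_assoc]

include hA

theorem map_B {g : X} (hg : ∀ x : ↥K, x ∈ A.U → MulAut.conjNormal g x ∈ A.U) :
    A.B.map (MulAut.conjNormal g : ↥K ≃* ↥K).toMonoidHom = A.B := by
  refine Subgroup.eq_of_le_of_card_ge ?_ (le_of_eq ?_)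
  · rintro _ ⟨b, hb, rfl⟩
    refine hA.mem_B_iff.2 fun u hu => ?_
    have hU : A.U.map (MulAut.conjNormal g : ↥K ≃* ↥K).toMonoidHom = A.U := by
      refine Subgroup.eq_of_le_of_card_ge ?_ (le_of_eq ?_)
      · rintro _ ⟨x, hx, rfl⟩; exact hg x hx
      · exact (Subgroup.card_map_of_injective (MulAut.conjNormal g : ↥K ≃* ↥K).injective).symm
    rw [← hU] at hu ⊢
    obtain ⟨x, hx, rfl⟩ := hu
    exact ⟨b * x * b⁻¹, hA.mem_B_iff.1 hb x hx, by simp⟩
  · exact (Subgroup.card_map_of_injective (MulAut.conjNormal g : ↥K ≃* ↥K).injective).symm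

theorem U_ne_top : A.U ≠ ⊤ := fun h => by
  obtain ⟨s, hs⟩ := hA.nonempty
  exact S_ne_one A hs (A.eq_one_of_n_mem_B (A.U_le_B (h ▸ Subgroup.mem_top _)))

theorem exists_carries {g : X} (hg : ∀ x : ↥K, x ∈ A.U → MulAut.conjNormal g x ∈ A.U) {s : W}
    (hs' : s ∈ A.S) : ∃ t ∈ A.S, Carries A g s t :=
  exists_image hA (map_B hA hg) hs'

theorem carries_inj {g : X} {s t t' : W} (ht : t ∈ A.S) (ht' : t' ∈ A.S) (h : Carries A g s t)
    (h' : Carries A g s t') : t = t' :=
  Set.singleton_injective (par_inj hA (by simpa using ht) (by simpa using ht') (h.symm.trans h'))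

include hX hs

theorem main (U : Sylow p ↥K) (hU : (U : Subgroup ↥K) = A.U) :
    IsCoatom (Subgroup.normalizer (((U : Subgroup ↥K).map K.subtype : Subgroup X) : Set X)) ∧
      RankCases A p (K ≠ ⊤) := by
  set N := Subgroup.normalizer (((U : Subgroup ↥K).map K.subtype : Subgroup X) : Set X) with hNd
  have hmemN : ∀ {g : X}, g ∈ N → ∀ x : ↥K, x ∈ A.U → MulAut.conjNormal g x ∈ A.U := by
    intro g hg x hx
    have h := ((Subgroup.mem_normalizer_iff.1 hg) x).1 ⟨x, hU ▸ hx, rfl⟩
    obtain ⟨y, hy, ey⟩ := h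
    rw [hU] at hy
    have : MulAut.conjNormal g x = y := Subtype.ext (by rw [MulAut.conjNormal_apply]; exact ey.symm)
    rwa [this]
  -- a Sylow subgroup over `U`
  obtain ⟨P, hP⟩ := (U.isPGroup'.map K.subtype).exists_le_sylow
  have hPK : ∀ x : ↥K, (x : X) ∈ (P : Subgroup X) → x ∈ A.U := by
    intro x hx
    have h := U.3 (Q := (P : Subgroup X).comap K.subtype)
      (P.isPGroup'.comap_of_injective _ K.subtype_injective) (fun y hy => hP ⟨y, hy, rfl⟩)
    rw [← hU, ← h]
    exact hx
  have hPN : (P : Subgroup X) ≤ N := by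
    intro g hg
    rw [Subgroup.mem_normalizer_iff]
    intro x
    constructor
    · rintro ⟨y, hy, rfl⟩
      refine ⟨⟨g * y * g⁻¹, (inferInstance : K.Normal).conj_mem _ y.2 g⟩, ?_, rfl⟩
      rw [hU]
      exact hPK _ (mul_mem (mul_mem hg (hP ⟨y, hy, rfl⟩)) (inv_mem hg))
    · rintro ⟨y, hy, e⟩
      refine ⟨⟨g⁻¹ * y * g, by simpa using (inferInstance : K.Normal).conj_mem _ y.2 g⁻¹⟩, ?_, ?_⟩
      · rw [hU]
        exact hPK _ (mul_mem (mul_mem (inv_mem hg) (hP ⟨y, hy, rfl⟩)) hg)
      · show g⁻¹ * (y : X) * g = x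
        rw [show (y : X) = K.subtype y from rfl, e]; group
  have hfr : N ⊔ K = ⊤ := Sylow.normalizer_sup_eq_top U
  have hNtop : N ≠ ⊤ := by
    intro h
    have hn : (A.U).Normal := ⟨fun x hx g => by
      have := hmemN (g := (g : X)) (h ▸ Subgroup.mem_top _) x hx
      rwa [show MulAut.conjNormal (g : X) x = g * x * g⁻¹ from
        Subtype.ext (by simp [MulAut.conjNormal_apply])] at this⟩
    rcases hn.eq_bot_or_eq_top with e | e
    · exact hA.U_ne_bot e
    · exact U_ne_top hA e
  obtain ⟨M, ⟨hM, hPM⟩, -⟩ := (hX P).2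
  have hNM : N ≤ M := Cfsg.Agent.H60.pMin_le hX hM hPM hPN hNtop
  have hKM : ¬ K ≤ M := fun h => hM.1 (top_le_iff.1 (hfr ▸ sup_le hNM h))
  -- invariant sets of fundamental elements give subgroups of `M`
  have hinv : ∀ L ⊆ A.S, L ≠ A.S → (∀ g ∈ (P : Subgroup X), ∀ r ∈ L, ∃ r' ∈ L, Carries A g r r') →
      (par A L).map K.subtype ≤ M := by
    intro L hL hLne hLinv
    refine le_trans le_sup_left (Cfsg.Agent.H60.pMin_le hX hM hPM
      (le_sup_right : (P : Subgroup X) ≤ (par A L).map K.subtype ⊔ P) fun htop => ?_)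
    have hn : (Subgroup.normalizer (((par A L).map K.subtype : Subgroup X) : Set X)) = ⊤ := by
      refine top_le_iff.1 (htop.ge.trans (sup_le Subgroup.le_normalizer fun g hg => ?_))
      have hgU := hmemN (hPN hg)
      have hgL : (par A L).map (MulAut.conjNormal g : ↥K ≃* ↥K).toMonoidHom = par A L := by
        refine Subgroup.eq_of_le_of_card_ge ?_ (le_of_eq ?_)
        · rw [Subgroup.map_le_iff_le_comap]
          refine sup_le (Subgroup.map_le_iff_le_comap.1 ((map_B hA hgU).le.trans (B_le_par _))) ?_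
          rw [Subgroup.closure_le]
          rintro _ ⟨r, hr, rfl⟩
          obtain ⟨r', hr', e⟩ := hLinv g hg r hr
          exact par_mono (Set.singleton_subset_iff.2 hr')
            (e ▸ Subgroup.mem_map_of_mem _ (n_mem_par rfl))
        · exact (Subgroup.card_map_of_injective (MulAut.conjNormal g : ↥K ≃* ↥K).injective).symm
      rw [Subgroup.mem_normalizer_iff]
      intro x
      constructor
      · rintro ⟨y, hy, rfl⟩
        refine ⟨MulAut.conjNormal g y, hgL ▸ Subgroup.mem_map_of_mem _ hy, ?_⟩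
        simp
      · rintro ⟨y, hy, e⟩
        rw [← hgL] at hy
        obtain ⟨z, hz, rfl⟩ := hy
        refine ⟨z, hz, ?_⟩
        have e' : g * (z : X) * g⁻¹ = g * x * g⁻¹ := by simpa using e
        simpa using e'
    have hnK : (par A L).Normal := ⟨fun x hx g => by
      have hg' : (g : X) ∈ Subgroup.normalizer (((par A L).map K.subtype : Subgroup X) : Set X) := by
        rw [hn]; exact Subgroup.mem_top _
      obtain ⟨y, hy, e⟩ := (Subgroup.mem_normalizer_iff.1 hg' x).1 ⟨x, hx, rfl⟩
      rwa [show g * x * g⁻¹ = y from Subtype.ext e.symm]⟩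
    rcases hnK.eq_bot_or_eq_top with e | e
    · exact hA.U_ne_bot (le_bot_iff.1 ((A.U_le_B.trans (B_le_par L)).trans e.le))
    · exact hLne (par_inj hA hL Set.Subset.rfl (e.trans (par_all hA).symm))
  -- transitivity
  have htrans : ∀ s ∈ A.S, ∀ t ∈ A.S, ∃ g ∈ (P : Subgroup X), Carries A g s t := by
    intro s hs' t ht
    by_contra hcon
    set L₁ : Set W := {r ∈ A.S | ∃ g ∈ (P : Subgroup X), Carries A g s r}
    set L₂ : Set W := A.S \ L₁
    have hs1 : s ∈ L₁ := ⟨hs', 1, one_mem _, Carries.one s⟩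
    have ht1 : t ∉ L₁ := fun h => hcon h.2
    have i1 : ∀ g ∈ (P : Subgroup X), ∀ r ∈ L₁, ∃ r' ∈ L₁, Carries A g r r' := by
      rintro g hg r ⟨hr, h, hh, hc⟩
      obtain ⟨r', hr', hc'⟩ := exists_carries hA (hmemN (hPN hg)) hr
      exact ⟨r', ⟨hr', g * h, mul_mem hg hh, hc.mul hc'⟩, hc'⟩
    have i2 : ∀ g ∈ (P : Subgroup X), ∀ r ∈ L₂, ∃ r' ∈ L₂, Carries A g r r' := by
      rintro g hg r ⟨hr, hr2⟩
      obtain ⟨r', hr', hc'⟩ := exists_carries hA (hmemN (hPN hg)) hr
      refine ⟨r', ⟨hr', fun h' => hr2 ?_⟩, hc'⟩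
      obtain ⟨-, h, hh, hc⟩ := h'
      exact ⟨hr, g⁻¹ * h, mul_mem (inv_mem hg) hh, hc.mul hc'.inv⟩
    have h1 := hinv L₁ (fun r hr => hr.1) (fun e => ht1 (e ▸ ht)) i1
    have h2 := hinv L₂ (fun r hr => hr.1) (fun e => (e ▸ hs' : s ∈ L₂).2 hs1) i2
    refine hKM fun x hx => ?_
    have hle : par A A.S ≤ M.comap K.subtype := by
      refine sup_le ((B_le_par L₁).trans (Subgroup.map_le_iff_le_comap.1 h1)) ?_
      rw [Subgroup.closure_le]
      rintro _ ⟨r, hr, rfl⟩
      by_cases hr1 : r ∈ L₁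
      · exact Subgroup.map_le_iff_le_comap.1 h1 (n_mem_par hr1)
      · exact Subgroup.map_le_iff_le_comap.1 h2 (n_mem_par ⟨hr, hr1⟩)
    rw [par_all hA] at hle
    exact hle (Subgroup.mem_top ⟨x, hx⟩)
  refine ⟨⟨hNtop, fun H hH => ?_⟩, ?_⟩
  · -- maximality
    have hNH : N ≤ H := hH.le
    have hB : A.B ≤ H.comap K.subtype := fun b hb => hNH (by
      show (b : X) ∈ N
      rw [hNd, Subgroup.mem_normalizer_iff]
      intro x
      constructor
      · rintro ⟨y, hy, rfl⟩
        exact ⟨b * y * b⁻¹, hU ▸ hA.mem_B_iff.1 hb y (hU ▸ hy), by simp⟩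
      · rintro ⟨y, hy, e⟩
        refine ⟨b⁻¹ * y * b⁻¹⁻¹, hU ▸ hA.mem_B_iff.1 (inv_mem hb) y (hU ▸ hy), ?_⟩
        simp only [map_mul, map_inv, e, Subgroup.subtype_apply]
        group)
    obtain ⟨L, hL, eL⟩ := exists_eq_par hB
    rcases L.eq_empty_or_nonempty with h | ⟨s, hsL⟩
    · exfalso
      refine hH.2 fun h' hh' => ?_
      rw [h, par_empty] at eL
      rw [hNd]
      refine Subgroup.mem_normalizer_fintype fun x hx => ?_
      obtain ⟨y, hy, rfl⟩ := hx
      have hy' : y ∈ A.U := hU ▸ hy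
      set z : ↥K := ⟨h' * y * h'⁻¹, (inferInstance : K.Normal).conj_mem _ y.2 h'⟩ with hz
      have hzB : z ∈ A.B := by
        rw [← eL]
        exact mul_mem (mul_mem hh' (hB (A.U_le_B hy'))) (inv_mem hh')
      obtain ⟨k, hk⟩ := hA.exists_pow hy'
      refine ⟨z, hU ▸ hA.mem_U_of_pElem hzB (k := k) (Subtype.ext ?_), rfl⟩
      rw [SubmonoidClass.coe_pow, hz]
      show (h' * (y : X) * h'⁻¹) ^ p ^ k = 1
      rw [conj_pow, show (y : X) ^ p ^ k = 1 by exact_mod_cast congrArg Subtype.val hk, mul_one,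
        mul_inv_cancel]
    · have hall : A.S ⊆ L := by
        intro t ht
        obtain ⟨g, hg, hc⟩ := htrans s (hL hsL) t ht
        have hgH : g ∈ H := hNH (hPN hg)
        have hnt : A.n t ∈ (par A {s}).map (MulAut.conjNormal g : ↥K ≃* ↥K).toMonoidHom :=
          hc ▸ n_mem_par rfl
        obtain ⟨x, hx, ex⟩ := hnt
        refine mem_J_of_n_mem hA hL ht (show A.n t ∈ par A L from ?_)
        rw [← eL]
        show ((A.n t : ↥K) : X) ∈ H
        have hxH : (x : X) ∈ H := by
          have : x ∈ H.comap K.subtype := eL ▸ par_mono (Set.singleton_subset_iff.2 hsL) hx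
          exact this
        rw [← ex]
        simpa using mul_mem (mul_mem hgH hxH) (inv_mem hgH)
      have hKH : K ≤ H := fun x hx => by
        have : (⟨x, hx⟩ : ↥K) ∈ H.comap K.subtype :=
          eL ▸ par_mono hall (par_all hA ▸ Subgroup.mem_top _)
        exact this
      exact top_le_iff.1 (hfr ▸ sup_le hNH hKH)
  · -- the rank
    by_cases hsub : A.S.Subsingleton
    · exact Or.inl hsub
    refine Or.inr ?_
    obtain ⟨s, hs', t, ht, hst⟩ := Set.not_subsingleton_iff.1 hsub
    have haut : ∀ a ∈ A.S, ∀ b ∈ A.S, ∃ α : ↥K ≃* ↥K,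
        A.U.map α.toMonoidHom = A.U ∧ (par A {a}).map α.toMonoidHom = par A {b} := by
      intro a ha b hb
      obtain ⟨g, hg, hc⟩ := htrans a ha b hb
      refine ⟨MulAut.conjNormal g, ?_, hc⟩
      refine Subgroup.eq_of_le_of_card_ge ?_ (le_of_eq ?_)
      · rintro _ ⟨x, hx, rfl⟩; exact hmemN (hPN hg) x hx
      · exact (Subgroup.card_map_of_injective (MulAut.conjNormal g : ↥K ≃* ↥K).injective).symm
    -- at most two
    have htwo : ∀ r ∈ A.S, r = s ∨ r = t := by
      by_contra hcon
      push Not at hcon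
      obtain ⟨r, hr, hrs, hrt⟩ := hcon
      have hdeg : ∀ a ∈ A.S, ∀ c : W, ∃ b ∈ A.S, b ≠ c ∧ a * b ≠ b * a := by
        by_contra hd
        push Not at hd
        obtain ⟨a, ha, c, hc⟩ := hd
        -- every element has at most one non-commuting partner
        have hone : ∀ x ∈ A.S, ∀ y ∈ A.S, ∀ z ∈ A.S, x * y ≠ y * x → x * z ≠ z * x → y = z := by
          intro x hx y hy z hz hxy hxz
          obtain ⟨g, hg, hcar⟩ := htrans x hx a ha
          have hB := map_B hA (hmemN (hPN hg))
          obtain ⟨y', hy', ey⟩ := exists_carries hA (hmemN (hPN hg)) hy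
          obtain ⟨z', hz', ez⟩ := exists_carries hA (hmemN (hPN hg)) hz
          have hB' := map_B hA (hmemN (hPN (inv_mem hg)))
          have hy'' : y' = c := by
            by_contra hne
            exact hxy (map_comm hA hB' ha hy' hx hy hcar.inv ey.inv (hc y' hy' hne))
          have hz'' : z' = c := by
            by_contra hne
            exact hxz (map_comm hA hB' ha hz' hx hz hcar.inv ez.inv (hc z' hz' hne))
          subst hy'' hz''
          exact carries_inj hA hy hz ey.inv ez.inv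
        have hex : ∃ x ∈ A.S, ∃ y ∈ A.S, x * y ≠ y * x := by
          by_contra hn
          push Not at hn
          exact no_split hA hs (I := {s}) (J := A.S \ {s}) (by simpa using hs') Set.sdiff_subset
            (fun e => hrs (by simpa using e.ge hr)) (fun e => (e.ge hs').2 rfl)
            (fun x hx y hy => by rw [Set.mem_singleton_iff] at hx; subst hx; exact hn _ hs' y hy.1)
            (fun x hx => (em (x = s)).elim Or.inl fun h => Or.inr ⟨hx, h⟩)
        obtain ⟨x, hx, y, hy, hxy⟩ := hex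
        refine no_split hA hs (I := {x, y}) (J := A.S \ {x, y})
          (Set.insert_subset hx (by simpa using hy)) Set.sdiff_subset ?_ (fun e => (e.ge hx).2 (by simp))
          ?_ (fun z hz => (em (z ∈ ({x, y} : Set W))).elim Or.inl fun h => Or.inr ⟨hz, h⟩)
        · intro e
          have h1 : s ∈ ({x, y} : Set W) := e.ge hs'
          have h2 : t ∈ ({x, y} : Set W) := e.ge ht
          have h3 : r ∈ ({x, y} : Set W) := e.ge hr
          simp only [Set.mem_insert_iff, Set.mem_singleton_iff] at h1 h2 h3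
          rcases h1 with rfl | rfl <;> rcases h2 with rfl | rfl <;> rcases h3 with rfl | rfl <;>
            first
            | exact hst rfl
            | exact hrs rfl
            | exact hrt rfl
        · rintro u hu z ⟨hz, hz'⟩
          by_contra hne
          simp only [Set.mem_insert_iff, Set.mem_singleton_iff] at hu hz'
          rcases hu with rfl | rfl
          · exact hz' (Or.inr (hone u hx z hz y hy hne hxy))
          · exact hz' (Or.inl (hone u hy z hz x hx hne (Ne.symm hxy)))
      -- an endless walk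
      let V := {q : W × W // q.1 ∈ A.S ∧ q.2 ∈ A.S ∧ q.1 * q.2 ≠ q.2 * q.1}
      let step : V → V := fun q =>
        ⟨(q.1.2, (hdeg q.1.2 q.2.2.1 q.1.1).choose), q.2.2.1,
          (hdeg q.1.2 q.2.2.1 q.1.1).choose_spec.1, (hdeg q.1.2 q.2.2.1 q.1.1).choose_spec.2.2⟩
      obtain ⟨b, hb, -, hsb⟩ := hdeg s hs' s
      let q₀ : V := ⟨(s, b), hs', hb, hsb⟩
      let f : ℕ → W := fun i => (step^[i] q₀).1.1
      have hnext : ∀ i, f (i + 1) = (step^[i] q₀).1.2 := fun i => by
        show (step^[i + 1] q₀).1.1 = _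
        rw [Function.iterate_succ_apply']
      refine no_walk hA f (fun i => (step^[i] q₀).2.1) (fun i => ?_) (fun i => ?_)
      · rw [hnext]; exact (step^[i] q₀).2.2.2
      · rw [hnext (i + 1), Function.iterate_succ_apply']
        exact (hdeg _ (step^[i] q₀).2.2.1 (step^[i] q₀).1.1).choose_spec.2.1
    have hS : A.S = {s, t} := Set.ext fun r => ⟨fun h => by simpa using htwo r h, by
      rintro (rfl | rfl)
      exacts [hs', ht]⟩
    obtain ⟨g, hg, hc⟩ := htrans s hs' t ht
    have hback : Carries A g t s := by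
      obtain ⟨r, hr, e⟩ := exists_carries hA (hmemN (hPN hg)) ht
      rcases htwo r hr with rfl | rfl
      · exact e
      · exact absurd (carries_inj hA hs' ht hc.inv e.inv) hst
    refine ⟨?_, fun hKtop => ?_, by rw [hS, Set.ncard_pair hst], haut⟩
    · rcases hp.out.eq_two_or_odd' with h | h
      · exact h
      exfalso
      obtain ⟨k, hk⟩ := P.isPGroup' ⟨g, hg⟩
      have hk' : g ^ p ^ k = 1 := congrArg Subtype.val hk
      have hpow : ∀ j : ℕ, Carries A (g ^ (2 * j)) s s := by
        intro j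
        induction j with
        | zero => rw [mul_zero, pow_zero]; exact Carries.one s
        | succ j ih =>
          rw [show 2 * (j + 1) = 1 + (1 + 2 * j) by ring, pow_add, pow_add, pow_one]
          exact (ih.mul hc).mul hback
      obtain ⟨j, hj⟩ := h.pow (n := k)
      have := (hpow j).mul hc
      rw [← pow_succ', ← hj, hk'] at this
      exact hst (carries_inj hA hs' ht (Carries.one s) this)
    · have hgK : g ∈ K := hKtop ▸ Subgroup.mem_top g
      have hgB : (⟨g, hgK⟩ : ↥K) ∈ par A {s} := B_le_par _ (A.U_le_B (hPK ⟨g, hgK⟩ hg))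
      refine hst (carries_inj hA hs' ht ?_ hc)
      refine Subgroup.eq_of_le_of_card_ge ?_ (le_of_eq ?_)
      · rintro _ ⟨x, hx, rfl⟩
        have : MulAut.conjNormal g x = ⟨g, hgK⟩ * x * (⟨g, hgK⟩ : ↥K)⁻¹ :=
          Subtype.ext (by simp [MulAut.conjNormal_apply])
        show MulAut.conjNormal g x ∈ _
        rw [this]
        exact mul_mem (mul_mem hgB hx) (inv_mem hgB)
      · exact (Subgroup.card_map_of_injective (MulAut.conjNormal g : ↥K ≃* ↥K).injective).symm

end Cfsg.Agent.H88.PMin
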