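import Cfsg.Agent.H88.PMin.Classical

/-!
The unitary and the minus type orthogonal groups: in dimension four and five the two fundamental root
groups differ in size.
-/

set_option autoImplicit false
set_option linter.unusedSectionVars false
set_option linter.unusedFintypeInType false
set_option linter.style.haveILetI false

namespace Cfsg.Agent.H88.PMin

open Matrix Cfsg.Agent.Linear Cfsg.Agent.H54 Cfsg.Agent.H52 Cfsg.Agent.H52.TwistedBruhat
open Cfsg.Agent.H83.Classical
open Cfsg.Agent.H13.Split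
open scoped MatrixGroups

variable {F : Type} [Field F] [Fintype F] {p : ℕ} [hp : Fact p.Prime] [CharP F p]

theorem entry_zero {n : ℕ} {s : Equiv.Perm (Fin n)} {u : GL (Fin n) F} (hu : u ∈ outPart s⁻¹)
    {a b : Fin n} (h : s a < s b) : (u : Matrix (Fin n) (Fin n) F) a b = 0 := by
  have h1 := mem_lowerGL.1 (mem_outPart.1 hu).2 (s a) (s b) h
  rw [perm_conj_apply] at h1
  simpa using h1

theorem entry_unitri {n : ℕ} {u : GL (Fin n) F} (hu : u ∈ unitriGL n F) {a b : Fin n} (h : b ≤ a) :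
    (u : Matrix (Fin n) (Fin n) F) a b = if a = b then 1 else 0 := by
  rcases h.eq_or_lt with rfl | h'
  · rw [if_pos rfl]; exact (mem_unitri.1 hu).2 b
  · rw [if_neg h'.ne']; exact mem_upper.1 (mem_unitri.1 hu).1 _ _ h'

theorem card_system_Uw {n : ℕ} (T : TwData n F) (w : ↥(TwData.symPerm n)) :
    Nat.card ↥(T.system.Uw w) =
      Nat.card {u : GL (Fin n) F // u ∈ outPart (F := F) (w : Equiv.Perm (Fin n))⁻¹ ∧ T.Θ u = u} := by
  rw [TwData.system_Uw]
  exact Nat.card_congr
    { toFun := fun x => ⟨x.1.1, x.2, x.1.2⟩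
      invFun := fun u => ⟨⟨u.1, u.2.2⟩, u.2.1⟩
      left_inv := fun _ => rfl
      right_inv := fun _ => rfl }

section

variable {q : ℕ}

theorem card_field_sq (hF : Fintype.card F = q ^ 2) : Nat.card F = q ^ 2 := by
  rw [Nat.card_eq_fintype_card, hF]

theorem q_lt_sq (hF : Fintype.card F = q ^ 2) : q < q ^ 2 ∧ q ^ 2 < q ^ 2 * q := by
  have h2 := Cfsg.Agent.Unitary.two_le_q hF
  constructor <;> nlinarith

theorem sigma_eq (hF : Fintype.card F = q ^ 2) (n : ℕ) (x : F) :
    (Unit.data n hF).σ x = x ^ q := rfl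

theorem four_middle (hF : Fintype.card F = q ^ 2) :
    Nat.card {u : GL (Fin 4) F // u ∈ outPart (F := F) (Equiv.swap (1 : Fin 4) 2)⁻¹ ∧
      (Unit.data 4 hF).Θ u = u} ≤ q := by
  have h12 : (1 : Fin 4) < 2 := by decide
  have shape : ∀ u : GL (Fin 4) F, u ∈ outPart (F := F) (Equiv.swap (1 : Fin 4) 2)⁻¹ →
      u = xGL h12.ne ((u : Matrix (Fin 4) (Fin 4) F) 1 2) := by
    intro u hu
    have hz := fun (a b : Fin 4) => entry_zero hu (a := a) (b := b)
    have hl := fun (a b : Fin 4) => entry_unitri (mem_outPart.1 hu).1 (a := a) (b := b)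
    apply Units.ext
    ext a b
    rw [xGL_apply]
    rcases lt_or_ge a b with hab | hab
    · by_cases h : a = 1 ∧ b = 2
      · obtain ⟨rfl, rfl⟩ := h; simp
      · rw [if_neg hab.ne, if_neg h, add_zero]
        exact hz a b ((show ∀ a b : Fin 4, a < b → ¬ (a = 1 ∧ b = 2) →
          Equiv.swap (1 : Fin 4) 2 a < Equiv.swap (1 : Fin 4) 2 b by decide) a b hab h)
    · rw [hl a b hab, if_neg (fun e : a = 1 ∧ b = 2 => absurd hab (by rw [e.1, e.2]; decide)), add_zero]
  refine le_of_le_of_eq ?_ (Cfsg.Agent.Unitary.card_trace_zero hF)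
  refine Nat.card_le_card_of_injective
    (fun u => ⟨(u.1 : Matrix (Fin 4) (Fin 4) F) 1 2, ?_⟩) fun u v e => ?_
  · have e := u.2.2
    rw [shape _ u.2.1, TwData.Θ_xGL] at e
    have e' := congrArg (fun g : GL (Fin 4) F => (g : Matrix (Fin 4) (Fin 4) F) 1 2) e
    simp only [xGL_apply] at e'
    rw [if_neg h12.ne, if_pos (by decide), if_pos (by decide)] at e'
    simp only [sigma_eq, show (Unit.data 4 hF).e = 1 from rfl, Pi.one_apply, Units.val_one, div_one,
      mul_one, zero_add] at e'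
    linear_combination -e'
  · refine Subtype.ext ?_
    rw [shape _ u.2.1, shape _ v.2.1, show (u.1 : Matrix (Fin 4) (Fin 4) F) 1 2 = v.1.1 1 2 from
      congrArg Subtype.val e]

theorem four_double (hF : Fintype.card F = q ^ 2) :
    q ^ 2 ≤ Nat.card {u : GL (Fin 4) F // u ∈ outPart (F := F)
      (Equiv.swap (0 : Fin 4) 1 * Equiv.swap 2 3)⁻¹ ∧ (Unit.data 4 hF).Θ u = u} := by
  set T := Unit.data 4 hF with hT
  refine le_of_eq_of_le (card_field_sq hF).symm ?_
  have h01 : (0 : Fin 4) < 1 := by decide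
  have h23 : (2 : Fin 4) < 3 := by decide
  refine Nat.card_le_card_of_injective
    (fun a => ⟨xGL h01.ne a * xGL h23.ne (-T.σ a), mul_mem
      (xGL_mem_outPart h01 a (by decide)) (xGL_mem_outPart h23 _ (by decide)), ?_⟩) fun a b e => ?_
  · rw [map_mul, TwData.Θ_xGL, TwData.Θ_xGL]
    have e1 : (T.e (1 : Fin 4).rev : F) / (T.e (0 : Fin 4).rev : F) = 1 := by simp [hT, Unit.data]
    have e2 : (T.e (3 : Fin 4).rev : F) / (T.e (2 : Fin 4).rev : F) = 1 := by simp [hT, Unit.data]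
    rw [e1, e2, mul_one, mul_one, map_neg, T.hσ, neg_neg]
    exact (TwData.xGL_mul_comm h01.ne h23.ne (by decide) (by decide) a (-T.σ a)).symm
  · have e' := congrArg (fun g => ((Subtype.val g : GL (Fin 4) F) : Matrix (Fin 4) (Fin 4) F) 0 1) e
    simpa [mul_xGL_apply, xGL_apply] using e'

theorem five_double (hF : Fintype.card F = q ^ 2) :
    Nat.card {u : GL (Fin 5) F // u ∈ outPart (F := F)
      (Equiv.swap (0 : Fin 5) 1 * Equiv.swap 3 4)⁻¹ ∧ (Unit.data 5 hF).Θ u = u} ≤ q ^ 2 := by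
  set T := Unit.data 5 hF with hT
  set s := Equiv.swap (0 : Fin 5) 1 * Equiv.swap 3 4 with hs
  have h01 : (0 : Fin 5) < 1 := by decide
  have h34 : (3 : Fin 5) < 4 := by decide
  have shape : ∀ u : GL (Fin 5) F, u ∈ outPart (F := F) s⁻¹ →
      u = xGL h01.ne ((u : Matrix (Fin 5) (Fin 5) F) 0 1) *
        xGL h34.ne ((u : Matrix (Fin 5) (Fin 5) F) 3 4) := by
    intro u hu
    have hz := fun (a b : Fin 5) => entry_zero hu (a := a) (b := b)
    have hl := fun (a b : Fin 5) => entry_unitri (mem_outPart.1 hu).1 (a := a) (b := b)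
    apply Units.ext
    ext a b
    simp only [mul_xGL_apply, xGL_apply]
    rcases lt_or_ge a b with hab | hab
    · by_cases h : a = 0 ∧ b = 1
      · obtain ⟨rfl, rfl⟩ := h; simp
      by_cases h' : a = 3 ∧ b = 4
      · obtain ⟨rfl, rfl⟩ := h'; simp
      rw [hz a b ((show ∀ a b : Fin 5, a < b → ¬ (a = 0 ∧ b = 1) → ¬ (a = 3 ∧ b = 4) →
          (Equiv.swap (0 : Fin 5) 1 * Equiv.swap 3 4 : Equiv.Perm (Fin 5)) a <
            (Equiv.swap (0 : Fin 5) 1 * Equiv.swap 3 4 : Equiv.Perm (Fin 5)) b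
          by decide) a b hab h h'), if_neg hab.ne, if_neg h]
      by_cases hb : b = 4
      · subst hb
        have ha : a ≠ 3 := fun e => h' ⟨e, rfl⟩
        simp [ha]
      · simp [hb]
    · rw [hl a b hab]
      by_cases hb : b = 4
      · subst hb
        have : a = 4 := le_antisymm (Fin.le_last a) hab
        subst this
        simp
      · by_cases hb1 : b = 1
        · subst hb1
          have ha : a ≠ 0 := fun e => absurd hab (by rw [e]; decide)
          simp [ha, hb]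
        · simp [hb, hb1]
  refine le_of_le_of_eq ?_ (card_field_sq hF)
  refine Nat.card_le_card_of_injective
    (fun u => (u.1 : Matrix (Fin 5) (Fin 5) F) 0 1) fun u v e => ?_
  have key : ∀ w : {u : GL (Fin 5) F // u ∈ outPart (F := F) s⁻¹ ∧ T.Θ u = u},
      (w.1 : Matrix (Fin 5) (Fin 5) F) 3 4 = -T.σ ((w.1 : Matrix (Fin 5) (Fin 5) F) 0 1) := by
    intro w
    have e := w.2.2
    rw [shape _ w.2.1, map_mul, TwData.Θ_xGL, TwData.Θ_xGL] at e
    have e' := congrArg (fun g : GL (Fin 5) F => (g : Matrix (Fin 5) (Fin 5) F) 3 4) e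
    simpa [mul_xGL_apply, xGL_apply, hT, Unit.data] using e'.symm
  refine Subtype.ext ?_
  rw [shape _ u.2.1, shape _ v.2.1, key u, key v]
  simp only at e
  rw [e]

theorem five_middle (hF : Fintype.card F = q ^ 2) :
    q ^ 2 * q ≤ Nat.card {u : GL (Fin 5) F // u ∈ outPart (F := F)
      (Equiv.swap (1 : Fin 5) 3)⁻¹ ∧ (Unit.data 5 hF).Θ u = u} := by
  set T := Unit.data 5 hF with hT
  have h12 : (1 : Fin 5) < 2 := by decide
  have h23 : (2 : Fin 5) < 3 := by decide
  have h13 : (1 : Fin 5) < 3 := by decide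
  have hex : ∀ a : F, ∃ c : F, c + c ^ q = a * a ^ q := fun a =>
    Cfsg.Agent.Unitary.exists_trace_eq hF (by rw [mul_pow, ← pow_mul, ← pow_two, ← hF, FiniteField.pow_card, mul_comm])
  choose c hc using hex
  refine le_of_eq_of_le (b := Nat.card (F × {x : F // x + x ^ q = 0})) ?_ ?_
  · rw [Nat.card_prod, card_field_sq hF, Cfsg.Agent.Unitary.card_trace_zero hF]
  refine Nat.card_le_card_of_injective
    (fun x => ⟨xGL h12.ne x.1 * xGL h23.ne (-T.σ x.1) * xGL h13.ne (c x.1 + x.2.1), ?_, ?_⟩)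
    fun x y e => ?_
  · exact mul_mem (mul_mem (xGL_mem_outPart h12 _ (by decide)) (xGL_mem_outPart h23 _ (by decide)))
      (xGL_mem_outPart h13 _ (by decide))
  · have hone : ∀ i j : Fin 5, (T.e i : F) / (T.e j : F) = 1 := fun i j => by simp [hT, Unit.data]
    rw [map_mul, map_mul, TwData.Θ_xGL, TwData.Θ_xGL, TwData.Θ_xGL]
    simp only [hone, mul_one, map_neg, T.hσ, neg_neg]
    show xGL h23.ne (-T.σ x.1) * xGL h12.ne x.1 * xGL h13.ne (-T.σ (c x.1 + x.2.1)) = _
    rw [TwData.xGL_commutation h12.ne h23.ne h13.ne, mul_assoc _ (xGL h13.ne _), TwData.xGL_mul_xGL]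
    congr 2
    have h1 : x.2.1 + T.σ x.2.1 = 0 := x.2.2
    have h2 : c x.1 + T.σ (c x.1) = x.1 * T.σ x.1 := hc x.1
    rw [map_add]
    linear_combination -h1 - h2
  · have e1 := congrArg (fun g => ((Subtype.val g : GL (Fin 5) F) : Matrix (Fin 5) (Fin 5) F) 1 2) e
    have e2 := congrArg (fun g => ((Subtype.val g : GL (Fin 5) F) : Matrix (Fin 5) (Fin 5) F) 1 3) e
    simp [mul_xGL_apply, xGL_apply] at e1 e2
    refine Prod.ext e1 (Subtype.ext ?_)
    rw [e1] at e2
    linear_combination e2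

theorem good_psu {K : Type*} [Group K] {n : ℕ} (hF : Fintype.card F = q ^ 2) (hn : 3 ≤ n)
    (h3 : ¬ (n = 3 ∧ q = 2)) (e : K ≃* Cfsg.PSU n F q) : Good p K := by
  obtain ⟨Q, hQ⟩ := Unit.exists_frame hF n
  set T := Unit.data n hF with hT
  let N : Subgroup ↥T.Grp := (GeneralLinearGroup.det.comp T.Grp.subtype).ker
  have hN : T.system.U ≤ N := fun g hg => MonoidHom.mem_ker.2 (Units.ext (by
    show Matrix.det ((g : GL (Fin n) F) : Matrix (Fin n) (Fin n) F) = 1
    have hg' : (g : GL (Fin n) F) ∈ unitriGL n F := hg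
    rw [blockTriangular_det (mem_unitri.1 hg').1]
    exact Finset.prod_eq_one fun i _ => (mem_unitri.1 hg').2 i))
  have hrange : (UnitaryTwoPSU.toG n F q Q).range = N.map T.Grp.subtype := by
    rw [UnitaryTwoPSU.range_toG hF hQ]
    ext g
    rw [UnitaryTwo.mem_G, Subgroup.mem_map]
    constructor
    · rintro ⟨h1, h2⟩
      exact ⟨⟨g, show T.Θ g = g by rw [Unit.data_Θ]; exact h1⟩, h2, rfl⟩
    · rintro ⟨⟨x, hx⟩, hxN, rfl⟩
      refine ⟨?_, hxN⟩
      show theta _ x = x
      rw [← Unit.data_Θ hF]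
      exact hx
  obtain ⟨A, hA, hS, hc⟩ := exists_sys (tw_hyp T p (by omega)) N hN (e.trans (centerQuot
    (((MonoidHom.ofInjective (UnitaryTwoPSU.toG_injective (q := q) Q)).trans
      (MulEquiv.subgroupCongr hrange)).trans
      (N.equivMapOfInjective _ T.Grp.subtype_injective).symm)))
  haveI : Finite K := Finite.of_equiv _ e.symm.toEquiv
  refine ⟨_, inferInstance, inferInstance, A, hA, fun proper h => ?_⟩
  have hmem : ∀ s : Equiv.Perm (Fin n), (hs : TwData.SGen s) →
      (⟨s, hs.mem⟩ : ↥(TwData.symPerm n)) ∈ A.S := fun s hs => hS ▸ hs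
  rcases (show n = 3 ∨ n = 4 ∨ n = 5 ∨ 6 ≤ n by omega) with rfl | rfl | rfl | h6
  · exact Or.inl (Or.inr (Or.inl ⟨F, inferInstance, inferInstance, inferInstance, q, hF,
      fun e' => h3 ⟨rfl, e'⟩, ⟨e⟩⟩))
  · refine (false_of_asym hA h
      (hmem (Equiv.swap (1 : Fin 4) 2) ⟨1, 2, rfl, Or.inl ⟨by decide, rfl⟩⟩)
      (hmem (Equiv.swap (0 : Fin 4) 1 * Equiv.swap 2 3)
        ⟨0, 1, rfl, Or.inr (Or.inr ⟨by decide, by decide⟩)⟩) ?_).elim
    rw [hc, hc, card_system_Uw, card_system_Uw]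
    simp only [hT]
    have := four_middle hF
    have := four_double hF
    have := q_lt_sq hF
    omega
  · refine (false_of_asym hA h
      (hmem (Equiv.swap (1 : Fin 5) 3) ⟨1, 2, rfl, Or.inr (Or.inl ⟨by decide, by decide⟩)⟩)
      (hmem (Equiv.swap (0 : Fin 5) 1 * Equiv.swap 3 4)
        ⟨0, 1, rfl, Or.inr (Or.inr ⟨by decide, by decide⟩)⟩) ?_).elim
    rw [hc, hc, card_system_Uw, card_system_Uw]
    simp only [hT]
    have := five_middle hF
    have := five_double hF
    have := q_lt_sq hF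
    omega
  · exact (false_of_three h (hmem _ (dbl_sgen (n := n) (i := 0) (by omega)))
      (hmem _ (dbl_sgen (n := n) (i := 1) (by omega))) (hmem _ (last_sgen n (by omega)))
      (fun e' => dbl_ne (i := 0) (j := 1) (by omega) (by omega) (by omega) (congrArg Subtype.val e'))
      (fun e' => dbl_ne_last (i := 0) (by omega) (by omega) (by omega) (congrArg Subtype.val e'))
      (fun e' => dbl_ne_last (i := 1) (by omega) (by omega) (by omega) (congrArg Subtype.val e'))).elim

end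

section Minus

open OPlus OMinus

theorem good_omega_minus {K : Type*} [Group K] {k : ℕ} (hk : 4 ≤ k) {a b : F}
    (hab : ∀ z₁ z₂ : F, z₁ ^ 2 + a * z₁ * z₂ + b * z₂ ^ 2 = 0 → z₁ = 0 ∧ z₂ = 0)
    (e : K ≃* Cfsg.POmega F (Cfsg.quadFormMinus (k - 1) F a b)) : Good p K := by
  generalize hm : k - 1 = m at e
  obtain ⟨L, _, ⟨E⟩⟩ := exists_quadExt hab
  haveI : Finite L := Finite.of_surjective (fun cd : F × F => E.ι cd.1 + E.ω * E.ι cd.2) fun x => by
    obtain ⟨c, d, e⟩ := E.span x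
    exact ⟨(c, d), e.symm⟩
  haveI : Fintype L := Fintype.ofFinite L
  haveI : CharP L p := charP_of_injective_ringHom E.ι.injective p
  set Ω := Cfsg.Omega F (Cfsg.quadFormMinus m F a b)
  let f : ↥(Cfsg.Agent.H37.NormalForm.fixedPts (psiP m E.σσ)) →* GL (Fin (dim m)) L :=
    (GPlus m L).subtype.comp (Cfsg.Agent.H37.NormalForm.fixedPts (psiP m E.σσ)).subtype
  have hf : Function.Injective f :=
    (GPlus m L).subtype_injective.comp (Cfsg.Agent.H37.NormalForm.fixedPts (psiP m E.σσ)).subtype_injective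
  have hrange : Ω.map (embO m E) ≤ f.range := by
    rintro _ ⟨g, hg, rfl⟩
    exact ⟨⟨⟨embO m E g, omega_le_GMinus E hg⟩, Subtype.ext (psi_embGL E g.1)⟩, rfl⟩
  let N : Subgroup ↥(Cfsg.Agent.H37.NormalForm.fixedPts (psiP m E.σσ)) := (Ω.map (embO m E)).comap f
  have hmem : ∀ g : ↥(Cfsg.Agent.H37.NormalForm.fixedPts (psiP m E.σσ)), f g ∈ (embO m E).range := fun g =>
    mem_range_embO E (GPlus_le_OGrp g.1.2) (congrArg Subtype.val (g.2 : psiP m E.σσ g.1 = g.1))
  haveI : N.Normal := ⟨fun x hx g => by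
    obtain ⟨x', hx', e⟩ := hx
    obtain ⟨g', hg'⟩ := hmem g
    refine ⟨g' * x' * g'⁻¹, (inferInstance : Ω.Normal).conj_mem x' hx' g', ?_⟩
    rw [map_mul, map_mul, map_inv, hg', e, map_mul, map_mul, map_inv]⟩
  have hU : (minusAmb m E.σσ).U ≤ N := by
    intro g hg
    obtain ⟨g', hg'⟩ := hmem g
    exact ⟨g', unitri_le_omega E p hab (by rw [hg']; exact (mem_U_iff E.σσ).1 hg), hg'⟩
  have e1 : ↥N ≃* ↥(Ω.map (embO m E)) :=
    (Subgroup.equivMapOfInjective N f hf).trans
      (MulEquiv.subgroupCongr (Subgroup.map_comap_eq_self hrange))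
  obtain ⟨A, hA, hS, -⟩ := exists_sys (minus_hyp E.σσ p (by omega : 1 ≤ m)) N hU
    (e.trans (centerQuot ((Ω.equivMapOfInjective (embO m E) (embO_injective E)).trans e1.symm)))
  refine ⟨_, inferInstance, inferInstance, A, hA, fun proper h => ?_⟩
  have hgen : ∀ s : Equiv.Perm (Fin (dim m)), (hs : IsGen s) →
      (⟨⟨s, (IsGen.mem hs).1⟩, (IsGen.mem hs).2.1⟩ : ↥(WMinus m)) ∈ A.S := fun s hs => hS ▸ hs
  have hd : ∀ (i : ℕ) (hi : i + 1 < m), IsGen (dbl (n := dim m) i (by simp only [dim]; omega)) :=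
    fun i hi => Or.inl ⟨⟨i, by simp only [dim]; omega⟩, ⟨i + 1, by simp only [dim]; omega⟩,
      rfl, hi, rfl⟩
  have hl : IsGen (Equiv.swap (⟨m - 1, by simp only [dim]; omega⟩ : Fin (dim m))
      (⟨m - 1, by simp only [dim]; omega⟩ : Fin (dim m)).rev * mid m) :=
    Or.inr ⟨⟨m - 1, by simp only [dim]; omega⟩, by simp only []; omega, rfl⟩
  refine (false_of_three h (hgen _ (hd 0 (by omega))) (hgen _ (hd 1 (by omega))) (hgen _ hl)
    (fun e' => dbl_ne (i := 0) (j := 1) (by simp only [dim]; omega) (by simp only [dim]; omega)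
      (by omega) (congrArg (fun x : ↥(WMinus m) => x.1.1) e'))
    (fun e' => ?_) (fun e' => ?_)).elim
  · refine ne_of_apply ⟨0, by simp only [dim]; omega⟩ ?_ (congrArg (fun x : ↥(WMinus m) => x.1.1) e')
    rw [dbl_apply _ _ (by simp)]
    simp only [Equiv.Perm.coe_mul, Function.comp_apply, mid, Equiv.swap_apply_def, Fin.ext_iff,
      Fin.val_rev, midA, apply_ite Fin.val, dim]
    split_ifs <;> omega
  · refine ne_of_apply ⟨1, by simp only [dim]; omega⟩ ?_ (congrArg (fun x : ↥(WMinus m) => x.1.1) e')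
    rw [dbl_apply _ _ (by simp)]
    simp only [Equiv.Perm.coe_mul, Function.comp_apply, mid, Equiv.swap_apply_def, Fin.ext_iff,
      Fin.val_rev, midA, apply_ite Fin.val, dim]
    split_ifs <;> omega

end Minus

end Cfsg.Agent.H88.PMin
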