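import Cfsg.Agent.H83.DefChar.Centraliser

/-!
Descents in the Weyl group of a split Tits system: a finite group has no endless walk without
backtracking in the graph of non-commuting fundamental elements.
-/

set_option autoImplicit false
set_option linter.unusedSectionVars false

namespace Cfsg.Agent.H88.PMin

open Cfsg.Agent.H28 Cfsg.Agent.H54.BNC
open Cfsg.Agent.H37 (Tits.Ambient)
open Cfsg.Agent.H13.Split Cfsg.Agent.H83.DefChar

variable {G W : Type*} [Group G] [Group W] {A : Tits.Ambient G W} {p : ℕ} (hA : Hyp A p)
  [hp : Fact p.Prime] [Finite G] [Finite W]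

/-- `s` is a right descent of `w`. -/
def Desc (A : Tits.Ambient G W) (w s : W) : Prop := ell A (w * s) < ell A w

theorem mul_S_cancel {s : W} (hs : s ∈ A.S) (w : W) : w * s * s = w := by
  rw [mul_assoc, A.sq_S s hs, mul_one]

include hA

theorem exists_decomp {J : Set W} (hJ : J ⊆ A.S) (w : W) :
    ∃ a, ∃ v ∈ Subgroup.closure J, w = a * v ∧
      ∀ x ∈ Subgroup.closure J, ell A (a * x) = ell A a + ell A x := by
  obtain ⟨⟨y, hy⟩, hmin⟩ := Finite.exists_min (fun y : ↥(Subgroup.closure J) => ell A (w * y.1))
  refine ⟨w * y, y⁻¹, inv_mem hy, by rw [mul_inv_cancel_right], ?_⟩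
  have hfree : RFree A.pair (A.n '' J) (A.n (w * y)) := by
    rintro _ ⟨s, hs, rfl⟩
    rw [len_n_mul]
    have h1 := hmin ⟨y * s, mul_mem hy (Subgroup.subset_closure hs)⟩
    simp only [← mul_assoc] at h1
    have h2 := ell_cases' A (hJ hs) (w * y)
    change ell A (w * y) ≤ ell A (w * y * s) at h1
    show ell A (w * y) < _
    omega
  intro x hx
  rw [← len_n_mul]
  exact len_add_of_RFree (Set.image_mono hJ) (n_mem A _) hfree (hA.n_mem_sup hx)

theorem exists_desc {J : Set W} (hJ : J ⊆ A.S) {y : W} (hy : y ∈ Subgroup.closure J) (hne : y ≠ 1) :
    ∃ s ∈ J, Desc A y s := by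
  by_contra hc
  push Not at hc
  have hfree : RFree A.pair (A.n '' J) (A.n y) := by
    rintro _ ⟨s, hs, rfl⟩
    rw [len_n_mul]
    show ell A y < ell A (y * s)
    have h1 : ¬ ell A (y * s) < ell A y := hc s hs
    have h2 := ell_cases' A (hJ hs) y
    omega
  have h : ell A (y * y⁻¹) = ell A y + ell A y⁻¹ := by
    rw [← len_n_mul]
    exact len_add_of_RFree (Set.image_mono hJ) (n_mem A _) hfree (hA.n_mem_sup (inv_mem hy))
  rw [mul_inv_cancel, ell_one] at h
  exact hne (eq_one_of_ell A (by omega))

/-- Two non-commuting descents of `w` give an alternating descent. -/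
theorem desc_desc {s t : W} (hs : s ∈ A.S) (ht : t ∈ A.S) (hne : s * t ≠ t * s) {w : W}
    (h1 : Desc A w s) (h2 : Desc A w t) : Desc A (w * s) t ∧ Desc A (w * s * t) s := by
  have hJ : ({s, t} : Set W) ⊆ A.S := Set.insert_subset hs (by simpa using ht)
  have hsJ : s ∈ Subgroup.closure ({s, t} : Set W) := Subgroup.subset_closure (by simp)
  have htJ : t ∈ Subgroup.closure ({s, t} : Set W) := Subgroup.subset_closure (by simp)
  obtain ⟨a, v, hv, rfl, hadd⟩ := exists_decomp hA hJ w
  obtain ⟨h2ts, h3tst⟩ := ell_aba hA hs ht hne
  unfold Desc at *
  have e0 := hadd v hv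
  have es := hadd _ (mul_mem hv hsJ)
  have et := hadd _ (mul_mem hv htJ)
  have est := hadd _ (mul_mem (mul_mem hv hsJ) htJ)
  have ests := hadd _ (mul_mem (mul_mem (mul_mem hv hsJ) htJ) hsJ)
  simp only [← mul_assoc] at es et est ests
  have hvs : ell A (v * s) < ell A v := by omega
  have hvt : ell A (v * t) < ell A v := by omega
  have d1 : Desc A (v * s) t := by
    have hne1 : v * s ≠ 1 := fun e => by
      obtain rfl : v = s := by rw [← mul_S_cancel hs v, e, one_mul]
      rw [ell_S A hs] at hvt
      have := eq_one_of_ell A (w := v * t) (by omega)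
      exact hne (by
        rw [mul_eq_one_iff_eq_inv, A.S_inv ht] at this
        rw [this])
    obtain ⟨r, hr, hd⟩ := exists_desc hA hJ (mul_mem hv hsJ) hne1
    rcases hr with rfl | rfl
    · unfold Desc at hd
      rw [mul_S_cancel hs] at hd
      omega
    · exact hd
  have d2 : Desc A (v * s * t) s := by
    have hne2 : v * s * t ≠ 1 := fun e => by
      obtain rfl : v = t * s := by
        rw [← mul_S_cancel hs v, ← mul_S_cancel ht (v * s), e, one_mul]
      omega
    obtain ⟨r, hr, hd⟩ := exists_desc hA hJ (mul_mem (mul_mem hv hsJ) htJ) hne2
    rcases hr with rfl | rfl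
    · exact hd
    · unfold Desc at hd d1
      rw [mul_S_cancel ht] at hd
      omega
  unfold Desc at d1 d2
  constructor <;> omega

/-- There is no endless walk without backtracking. -/
theorem no_walk (f : ℕ → W) (hf : ∀ i, f i ∈ A.S) (hne : ∀ i, f i * f (i + 1) ≠ f (i + 1) * f i)
    (hback : ∀ i, f (i + 2) ≠ f i) : False := by
  let w : ℕ → W := fun n => Nat.rec 1 (fun i x => x * f i) n
  have key : ∀ n, ell A (w n) = n ∧ ∀ t ∈ A.S, Desc A (w n) t → ∃ m, n = m + 1 ∧ t = f m := by
    intro n
    induction n using Nat.strong_induction_on with
    | _ n ih =>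
      match n with
      | 0 =>
        refine ⟨ell_one A, fun t ht hd => ?_⟩
        unfold Desc at hd
        rw [show w 0 = 1 from rfl, ell_one] at hd
        omega
      | n + 1 =>
        obtain ⟨hl, hd⟩ := ih n (by omega)
        have hup : ell A (w n * f n) = ell A (w n) + 1 := by
          refine (ell_cases' A (hf n) (w n)).resolve_right fun h => ?_
          obtain ⟨m, rfl, e⟩ := hd (f n) (hf n) (by unfold Desc; omega)
          exact hne m (by rw [e])
        refine ⟨show ell A (w n * f n) = n + 1 by omega, fun t ht hdt => ?_⟩
        by_contra hcon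
        have hts : t ≠ f n := fun e => hcon ⟨n, rfl, e⟩
        have hds : Desc A (w (n + 1)) (f n) := by
          show ell A (w n * f n * f n) < ell A (w n * f n)
          rw [mul_S_cancel (hf n)]; omega
        have hw : w (n + 1) * f n = w n := mul_S_cancel (hf n) _
        by_cases hc : f n * t = t * f n
        · -- `t` descends `w n` as well
          have hdn : Desc A (w n) t := by
            have h' : ell A (w n * f n * t) < ell A (w n * f n) := hdt
            unfold Desc
            rcases ell_cases' A ht (w n) with h | h
            · exfalso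
              have e : w n * f n * t = w n * t * f n := by rw [mul_assoc, hc, ← mul_assoc]
              rw [e] at h'
              rcases ell_cases' A (hf n) (w n * t) with g | g
              · omega
              · obtain ⟨a, v, hv, he, hadd⟩ :=
                  exists_decomp hA (J := {f n, t}) (Set.insert_subset (hf n) (by simpa using ht)) (w n)
                have hfJ : f n ∈ Subgroup.closure ({f n, t} : Set W) := Subgroup.subset_closure (by simp)
                have htJ : t ∈ Subgroup.closure ({f n, t} : Set W) := Subgroup.subset_closure (by simp)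
                have hv1 : v = 1 := by
                  by_contra hv1
                  obtain ⟨r, hr, hrd⟩ := exists_desc hA
                    (Set.insert_subset (hf n) (by simpa using ht)) hv hv1
                  have e1 := hadd v hv
                  rw [← he] at e1
                  have e2 := hadd _ (mul_mem hv hfJ)
                  have e3 := hadd _ (mul_mem hv htJ)
                  rw [← mul_assoc, ← he] at e2 e3
                  unfold Desc at hrd
                  rcases hr with rfl | rfl <;> omega
                rw [hv1, mul_one] at he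
                subst he
                have e4 := hadd _ (mul_mem htJ hfJ)
                rw [← mul_assoc] at e4
                have e5 := hadd _ hfJ
                have htf : ell A (t * f n) = 2 := by
                  rcases ell_cases' A (hf n) t with q | q <;> rw [ell_S A ht] at q
                  · exact q
                  · exact absurd (by
                      have := eq_one_of_ell A (w := t * f n) (by omega)
                      rwa [mul_eq_one_iff_eq_inv, A.S_inv (hf n)] at this) hts
                rw [ell_S A (hf n)] at e5
                omega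
            · omega
          obtain ⟨m, rfl, e⟩ := hd t ht hdn
          exact hne m (by rw [← e]; exact hc.symm)
        · obtain ⟨h1, h2⟩ := desc_desc hA (hf n) ht hc hds hdt
          rw [hw] at h1 h2
          obtain ⟨m, rfl, e⟩ := hd t ht h1
          subst e
          rw [show w (m + 1) * f m = w m from mul_S_cancel (hf m) _] at h2
          obtain ⟨k, rfl, e⟩ := (ih m (by omega)).2 (f (m + 1)) (hf _) h2
          exact hback k e
  have hinj : Function.Injective w := fun a b e => by
    rw [← (key a).1, ← (key b).1, e]
  exact (Finite.of_injective w hinj).false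

end Cfsg.Agent.H88.PMin
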